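import Mathlib.Algebra.Homology.HomologicalComplexLimits
import Mathlib.Algebra.Homology.Embedding.CochainComplex
import Mathlib.CategoryTheory.Abelian.GrothendieckAxioms.Basic
import Mathlib.Algebra.Homology.ShortComplex.PreservesHomology
import Mathlib.CategoryTheory.Functor.OfSequence
import Mathlib.CategoryTheory.Abelian.FunctorCategory

/-!
# Stupid truncations as an exhausting sequence, and sequential colimits of acyclic complexes
-/

set_option linter.style.haveILetI false

universe v u

open CategoryTheory Limits HomologicalComplex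

namespace Groth.Agent.Lib.SiteKFlat.Trunc

variable {A : Type u} [Category.{v} A] [Abelian A] [∀ I : Type, HasColimitsOfShape (Discrete I) A]

variable (K : CochainComplex A ℤ)

/-- The terms of the stupid truncation. -/
noncomputable abbrev tX (c i : ℤ) : A := ∐ fun _ : PLift (c ≤ i) => K.X i

/-- The inclusion of the truncated terms. -/
noncomputable def tι (c i : ℤ) : tX K c i ⟶ K.X i := Sigma.desc fun _ => 𝟙 _

lemma isIso_tι {c i : ℤ} (h : c ≤ i) : IsIso (tι K c i) :=
  ⟨Sigma.ι (fun _ : PLift (c ≤ i) => K.X i) ⟨h⟩, Sigma.hom_ext _ _ fun b => by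
      obtain ⟨b⟩ := b
      simp [tι], by simp [tι]⟩

lemma isZero_tX {c i : ℤ} (h : i < c) : IsZero (tX K c i) := by
  rw [IsZero.iff_id_eq_zero]
  exact Sigma.hom_ext _ _ fun b => absurd b.down (by omega)

/-- The stupid truncation in degrees `≥ c`. -/
noncomputable def trunc (c : ℤ) : CochainComplex A ℤ where
  X := tX K c
  d i j := Sigma.desc fun _ => if hj : c ≤ j then
    K.d i j ≫ Sigma.ι (fun _ : PLift (c ≤ j) => K.X j) ⟨hj⟩ else 0
  shape i j h := Sigma.hom_ext _ _ fun b => by
    by_cases hj : c ≤ j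
    · simp [hj, K.shape i j h]
    · simp [hj]
  d_comp_d' i j k _ _ := Sigma.hom_ext _ _ fun b => by
    by_cases hj : c ≤ j <;> by_cases hk : c ≤ k <;> simp [hj, hk]

/-- The inclusion of a stupid truncation. -/
noncomputable def incl (c : ℤ) : trunc K c ⟶ K where
  f i := tι K c i
  comm' i j (hij : i + 1 = j) := Sigma.hom_ext _ _ fun b => by
    have : c ≤ j := by have := b.down; omega
    simp [trunc, tι, this]

/-- The transition maps of stupid truncations. -/
noncomputable def transition {c c' : ℤ} (h : c ≤ c') : trunc K c' ⟶ trunc K c where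
  f i := Sigma.desc fun b => Sigma.ι (fun _ : PLift (c ≤ i) => K.X i) ⟨h.trans b.down⟩
  comm' i j (hij : i + 1 = j) := Sigma.hom_ext _ _ fun b => by
    have h₁ : c ≤ j := by have := b.down; omega
    have h₂ : c' ≤ j := by have := b.down; omega
    simp [trunc, h₁, h₂]

lemma transition_incl {c c' : ℤ} (h : c ≤ c') : transition K h ≫ incl K c = incl K c' := by
  ext i : 1
  refine Sigma.hom_ext _ _ fun b => ?_
  simp only [comp_f, transition, incl, tι]
  erw [Sigma.ι_desc_assoc, Sigma.ι_desc, Sigma.ι_desc]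

lemma isIso_transition_f {c c' i : ℤ} (h : c ≤ c') (hi : c' ≤ i) : IsIso ((transition K h).f i) := by
  have e := congrArg (fun f => f.f i) (transition_incl K h)
  simp only [comp_f] at e
  haveI : IsIso ((incl K c).f i) := isIso_tι K (h.trans hi)
  haveI : IsIso ((incl K c').f i) := isIso_tι K hi
  exact IsIso.of_isIso_fac_right e

lemma mono_transition_f {c c' : ℤ} (h : c ≤ c') (i : ℤ) : Mono ((transition K h).f i) := by
  by_cases hi : c' ≤ i
  · haveI := isIso_transition_f K h hi
    infer_instance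
  · exact ⟨fun _ _ _ => (isZero_tX K (show i < c' by omega)).eq_of_tgt _ _⟩

lemma mono_map_transition_f {c c' : ℤ} (h : c ≤ c') (i : ℤ) {B : Type*} [Category B] [Abelian B]
    (G : A ⥤ B) [G.Additive] : Mono (G.map ((transition K h).f i)) := by
  by_cases hi : c' ≤ i
  · haveI := isIso_transition_f K h hi
    infer_instance
  · exact ⟨fun _ _ _ => (G.map_isZero (isZero_tX K (show i < c' by omega))).eq_of_tgt _ _⟩

lemma isStrictlyGE_trunc (c : ℤ) : (trunc K c).IsStrictlyGE c := by
  rw [CochainComplex.isStrictlyGE_iff]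
  exact fun i hi => isZero_tX K hi

lemma isStrictlyLE_trunc (c b : ℤ) [K.IsStrictlyLE b] : (trunc K c).IsStrictlyLE b := by
  rw [CochainComplex.isStrictlyLE_iff]
  intro i hi
  rw [IsZero.iff_id_eq_zero]
  exact Sigma.hom_ext _ _ fun _ => (K.isZero_of_isStrictlyLE b i hi).eq_of_src _ _

/-- The exhausting sequence of stupid truncations starting at `c₀`. -/
noncomputable def seq (c₀ : ℤ) : ℕ ⥤ CochainComplex A ℤ :=
  Functor.ofSequence (X := fun k : ℕ => trunc K (c₀ - k))
    fun k => transition K (show c₀ - ((k + 1 : ℕ) : ℤ) ≤ c₀ - (k : ℤ) by omega)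

/-- The cocone of stupid truncations. -/
noncomputable def seqCocone (c₀ : ℤ) : Cocone (seq K c₀) :=
  Cocone.mk K (NatTrans.ofSequence (fun k => incl K (c₀ - k)) fun k => by
    change (seq K c₀).map (homOfLE (Nat.le_succ k)) ≫ incl K (c₀ - ((k + 1 : ℕ) : ℤ)) =
      incl K (c₀ - (k : ℤ)) ≫ 𝟙 K
    rw [Category.comp_id]
    exact (congrArg (· ≫ incl K (c₀ - ((k + 1 : ℕ) : ℤ)))
      (Functor.ofSequence_map_homOfLE_succ _ k)).trans (transition_incl K _))

/-- The stupid truncations exhaust the complex. -/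
noncomputable def isColimitSeqCocone (c₀ : ℤ) : IsColimit (seqCocone K c₀) :=
  isColimitOfEval _ _ fun i =>
    { desc := fun s => Sigma.ι (fun _ : PLift (c₀ - ((c₀ - i).toNat : ℤ) ≤ i) => K.X i)
        ⟨by omega⟩ ≫ s.ι.app (c₀ - i).toNat
      fac := fun s k => by
        refine Sigma.hom_ext _ _ fun b => ?_
        have hk : (c₀ - i).toNat ≤ k := by have := b.down; omega
        have hw := congrArg (fun f => f.f i) ((seqCocone K c₀).w (homOfLE hk))
        have h₀ : c₀ - ((c₀ - i).toNat : ℤ) ≤ i := by omega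
        have e : Sigma.ι (fun _ : PLift (c₀ - ((c₀ - i).toNat : ℤ) ≤ i) => K.X i) ⟨h₀⟩ ≫
            ((seq K c₀).map (homOfLE hk)).f i = Sigma.ι (fun _ => K.X i) b := by
          haveI : IsIso (tι K (c₀ - (k : ℤ)) i) := isIso_tι K b.down
          refine (cancel_mono (tι K (c₀ - (k : ℤ)) i)).1 ?_
          exact (Category.assoc _ _ _).trans ((congrArg (_ ≫ ·) hw).trans
            ((Sigma.ι_desc _ _).trans (Sigma.ι_desc (fun _ : PLift (c₀ - (k : ℤ) ≤ i) => 𝟙 (K.X i)) b).symm))
        change Sigma.ι (fun _ => K.X i) b ≫ Sigma.desc (fun _ => 𝟙 (K.X i)) ≫ _ = _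
        erw [Sigma.ι_desc_assoc, Category.id_comp, ← s.w (homOfLE hk)]
        exact (Category.assoc _ _ _).symm.trans (congrArg (· ≫ _) e)
      uniq := fun s m hm => by
        refine Eq.trans ?_ (congrArg (_ ≫ ·) (hm (c₀ - i).toNat))
        exact ((Category.id_comp m).symm.trans (congrArg (· ≫ m) (Sigma.ι_desc
          (fun _ : PLift (c₀ - ((c₀ - i).toNat : ℤ) ≤ i) => 𝟙 (K.X i)) ⟨by omega⟩).symm)).trans
          (Category.assoc _ _ _) }

/-- Sequential colimits of acyclic complexes are acyclic. -/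
theorem acyclic_of_isColimit [HasColimitsOfShape ℕ A] [HasExactColimitsOfShape ℕ A]
    {D : ℕ ⥤ CochainComplex A ℤ} {cc : Cocone D} (hcc : IsColimit cc)
    (hD : ∀ k, (D.obj k).Acyclic) : cc.pt.Acyclic := fun n => by
  rw [exactAt_iff' _ (n - 1) n (n + 1) (by simp) (by simp)]
  let S : ShortComplex (ℕ ⥤ A) := ShortComplex.mk
    ({ app := fun k => (D.obj k).d (n - 1) n
       naturality := fun k k' f => (D.map f).comm _ _ } :
      D ⋙ eval A (.up ℤ) (n - 1) ⟶ D ⋙ eval A (.up ℤ) n)
    ({ app := fun k => (D.obj k).d n (n + 1)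
       naturality := fun k k' f => (D.map f).comm _ _ } :
      D ⋙ eval A (.up ℤ) n ⟶ D ⋙ eval A (.up ℤ) (n + 1))
    (by ext k; exact (D.obj k).d_comp_d _ _ _)
  have hS : S.Exact := by
    rw [ShortComplex.exact_iff_isZero_homology]
    refine Functor.isZero _ fun k => ?_
    have h := hD k n
    rw [exactAt_iff' _ (n - 1) n (n + 1) (by simp) (by simp)] at h
    have h' : IsZero (S.map ((evaluation ℕ A).obj k)).homology :=
      ShortComplex.exact_iff_isZero_homology _ |>.1 h
    exact h'.of_iso (S.mapHomologyIso ((evaluation ℕ A).obj k)).symm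
  haveI : (colim : (ℕ ⥤ A) ⥤ A).Additive :=
    haveI := preservesBinaryBiproducts_of_preservesBinaryCoproducts (colim : (ℕ ⥤ A) ⥤ A)
    Functor.additive_of_preservesBinaryBiproducts _
  have h := hS.map colim
  let e := fun i : ℤ => (colimit.isColimit (D ⋙ eval A (.up ℤ) i)).coconePointUniqueUpToIso
    (isColimitOfPreserves (eval A (.up ℤ) i) hcc)
  have he : ∀ i k, colimit.ι (D ⋙ eval A (.up ℤ) i) k ≫ (e i).hom = (cc.ι.app k).f i :=
    fun i k => IsColimit.comp_coconePointUniqueUpToIso_hom _ _ k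
  have key : ∀ i j (α : D ⋙ eval A (.up ℤ) i ⟶ D ⋙ eval A (.up ℤ) j),
      (∀ k, α.app k = (D.obj k).d i j) → (e i).hom ≫ cc.pt.d i j = colim.map α ≫ (e j).hom := by
    intro i j α hα
    refine colimit.hom_ext fun k => ?_
    refine (Category.assoc _ _ _).symm.trans ((congrArg (· ≫ cc.pt.d i j) (he i k)).trans ?_)
    refine ((cc.ι.app k).comm i j).trans (Eq.trans ?_ (ι_colimMap_assoc α k _).symm)
    exact (congrArg₂ (· ≫ ·) (hα k) (he j k)).symm
  exact ShortComplex.exact_of_iso (ShortComplex.isoMk (e (n - 1)) (e n) (e (n + 1))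
    (key _ _ S.f fun _ => rfl) (key _ _ S.g fun _ => rfl)) h

end Groth.Agent.Lib.SiteKFlat.Trunc
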