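import Groth.Agent.Lib.SiteKFlat.Exact
import Mathlib.Algebra.Homology.HomotopyCategory.DegreewiseSplit
import Mathlib.Algebra.Homology.BifunctorShift
import Mathlib.Algebra.Homology.HomologySequenceLemmas

/-!
# Tensor products of complexes with short exact sequences and quasi-isomorphisms
-/

set_option linter.style.haveILetI false

universe v v' u u'

open CategoryTheory Limits HomologicalComplex

namespace Groth.Agent.Lib.SiteKFlat.Cx

section General

variable {A : Type u} [Category.{v} A] [Abelian A] {B : Type u'} [Category.{v'} B] [Abelian B]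

theorem shortExact_of_mono (T : CochainComplex A ℤ ⥤ CochainComplex B ℤ) [T.Additive]
    [PreservesFiniteColimits T] {S : ShortComplex (CochainComplex A ℤ)} (hS : S.ShortExact)
    (h : Mono (T.map S.f)) : (S.map T).ShortExact :=
  { exact := (Exact.exact_map_of_rightExact T hS).1
    mono_f := h
    epi_g := (Exact.exact_map_of_rightExact T hS).2 }

theorem acyclic_X₃ {S : ShortComplex (CochainComplex B ℤ)} (hS : S.ShortExact)
    (h₁ : S.X₁.Acyclic) (h₂ : S.X₂.Acyclic) : S.X₃.Acyclic := fun n => by
  rw [exactAt_iff_isZero_homology]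
  exact (hS.homology_exact₃ n (n + 1) rfl).isZero_X₂ ((h₂ n).isZero_homology.eq_of_src _ _)
    ((h₁ (n + 1)).isZero_homology.eq_of_tgt _ _)

theorem acyclic_X₂ {S : ShortComplex (CochainComplex B ℤ)} (hS : S.ShortExact)
    (h₁ : S.X₁.Acyclic) (h₃ : S.X₃.Acyclic) : S.X₂.Acyclic := fun n => by
  rw [exactAt_iff_isZero_homology]
  exact (hS.homology_exact₂ n).isZero_X₂ ((h₁ n).isZero_homology.eq_of_src _ _)
    ((h₃ n).isZero_homology.eq_of_tgt _ _)

theorem acyclic_X₁ {S : ShortComplex (CochainComplex B ℤ)} (hS : S.ShortExact)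
    (h₂ : S.X₂.Acyclic) (h₃ : S.X₃.Acyclic) : S.X₁.Acyclic := fun n => by
  obtain ⟨m, rfl⟩ : ∃ m, n = m + 1 := ⟨n - 1, by omega⟩
  rw [exactAt_iff_isZero_homology]
  exact (hS.homology_exact₁ m (m + 1) rfl).isZero_X₂ ((h₃ m).isZero_homology.eq_of_src _ _)
    ((h₂ (m + 1)).isZero_homology.eq_of_tgt _ _)

theorem quasiIso_of_shortExact {S : ShortComplex (CochainComplex B ℤ)} (hS : S.ShortExact)
    (h₃ : S.X₃.Acyclic) : QuasiIso S.f := by
  refine ⟨fun n => ?_⟩
  obtain ⟨m, rfl⟩ : ∃ m, n = m + 1 := ⟨n - 1, by omega⟩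
  rw [quasiIsoAt_iff_isIso_homologyMap]
  haveI : Epi (homologyMap S.f (m + 1)) :=
    (hS.homology_exact₂ (m + 1)).epi_f ((h₃ (m + 1)).isZero_homology.eq_of_tgt _ _)
  haveI : Mono (homologyMap S.f (m + 1)) :=
    (hS.homology_exact₁ m (m + 1) rfl).mono_g ((h₃ m).isZero_homology.eq_of_src _ _)
  exact isIso_of_mono_of_epi _

theorem acyclic_of_quasiIso_shortExact {S : ShortComplex (CochainComplex B ℤ)} (hS : S.ShortExact)
    [QuasiIso S.f] : S.X₃.Acyclic := fun n => by
  rw [exactAt_iff_isZero_homology]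
  haveI : IsIso (homologyMap S.f n) := inferInstance
  haveI : IsIso (homologyMap S.f (n + 1)) := inferInstance
  refine (hS.homology_exact₃ n (n + 1) rfl).isZero_X₂ ?_ ?_
  · rw [← cancel_epi (homologyMap S.f n), ← homologyMap_comp, S.zero, homologyMap_zero, comp_zero]
  · rw [← cancel_mono (homologyMap S.f (n + 1)), hS.δ_comp n (n + 1) rfl, zero_comp]

variable {F F' : CochainComplex A ℤ}

/-- The mapping cone of the identity. -/
noncomputable abbrev cyl0 (F : CochainComplex A ℤ) : CochainComplex A ℤ :=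
  CochainComplex.mappingCone (𝟙 F)

/-- The graph inclusion `F ⟶ F' ⊞ cone (𝟙 F)`. -/
noncomputable def graph (α : F ⟶ F') : F ⟶ F' ⊞ cyl0 F :=
  biprod.lift α (CochainComplex.mappingCone.inr (𝟙 F))

/-- The graph inclusion splits in each degree. -/
noncomputable def graphRetraction (α : F ⟶ F') (n : ℤ) : (F' ⊞ cyl0 F).X n ⟶ F.X n :=
  (biprod.snd : F' ⊞ cyl0 F ⟶ cyl0 F).f n ≫
    (CochainComplex.mappingCone.snd (𝟙 F)).v n n (add_zero n)

lemma graph_retraction (α : F ⟶ F') (n : ℤ) : (graph α).f n ≫ graphRetraction α n = 𝟙 _ := by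
  rw [graphRetraction, ← Category.assoc, ← comp_f, graph, biprod.lift_snd]
  exact CochainComplex.mappingCone.inr_f_snd_v _ n

lemma graph_fst (α : F ⟶ F') : graph α ≫ biprod.fst = α := biprod.lift_fst _ _

instance mono_graph (α : F ⟶ F') : Mono (graph α) := by
  refine mono_of_mono_f _ fun n => ?_
  exact mono_of_mono_fac (graph_retraction α n)

/-- The cokernel sequence of the graph inclusion. -/
noncomputable abbrev graphSES (α : F ⟶ F') : ShortComplex (CochainComplex A ℤ) :=
  ShortComplex.mk _ _ (cokernel.condition (graph α))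

lemma graphSES_shortExact (α : F ⟶ F') : (graphSES α).ShortExact :=
  { exact := ShortComplex.exact_cokernel (graph α) }

/-- The degreewise splitting of the graph sequence. -/
noncomputable def graphSplitting (α : F ⟶ F') (n : ℤ) :
    ((graphSES α).map (HomologicalComplex.eval A (.up ℤ) n)).Splitting :=
  haveI : Epi (((graphSES α).map (HomologicalComplex.eval A (.up ℤ) n)).g) :=
    ((graphSES_shortExact α).map_of_exact _).epi_g
  ShortComplex.Splitting.ofExactOfRetraction _
    ((graphSES_shortExact α).map_of_exact (HomologicalComplex.eval A (.up ℤ) n)).exact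
    (graphRetraction α n) (graph_retraction α n) inferInstance

theorem quasiIso_map_fst (T : CochainComplex A ℤ ⥤ CochainComplex B ℤ) [T.Additive]
    (E F' : CochainComplex A ℤ) (hE : (T.obj E).Acyclic) :
    QuasiIso (T.map (biprod.fst : F' ⊞ E ⟶ F')) := by
  refine ⟨fun n => ?_⟩
  rw [quasiIsoAt_iff_isIso_homologyMap]
  refine ⟨homologyMap (T.map biprod.inl) n, ?_, ?_⟩
  · have h := congrArg (fun f => homologyMap (T.map f) n) (biprod.total (X := F') (Y := E))
    simp only [Functor.map_add, Functor.map_comp, homologyMap_add, homologyMap_comp] at h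
    rw [show homologyMap (T.map (biprod.snd : F' ⊞ E ⟶ E)) n = 0 from
      (hE n).isZero_homology.eq_of_tgt _ _, zero_comp, add_zero] at h
    exact h.trans ((congrArg (homologyMap · n) (T.map_id _)).trans (homologyMap_id _ _))
  · rw [← homologyMap_comp, ← Functor.map_comp, biprod.inl_fst]
    exact (congrArg (homologyMap · n) (T.map_id _)).trans (homologyMap_id _ _)

theorem acyclic_cyl0 (T : CochainComplex A ℤ ⥤ CochainComplex A ℤ) [T.Additive]
    (hT : ∀ E : CochainComplex A ℤ, Homotopy (𝟙 E) 0 → (T.obj E).Acyclic) (F : CochainComplex A ℤ) :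
    (T.obj (cyl0 F)).Acyclic :=
  hT _ (CochainComplex.mappingCone.homotopyToZeroOfId F)

theorem acyclic_cyl0' (F : CochainComplex A ℤ) : (cyl0 F).Acyclic :=
  DerivedOX.Bifunctor.acyclic_of_homotopy_zero (CochainComplex.mappingCone.homotopyToZeroOfId F)

theorem acyclic_graph_cokernel (α : F ⟶ F') [QuasiIso α] : (cokernel (graph α)).Acyclic := by
  haveI : QuasiIso ((𝟭 (CochainComplex A ℤ)).map (biprod.fst : F' ⊞ cyl0 F ⟶ F')) :=
    quasiIso_map_fst _ _ _ (acyclic_cyl0' F)
  haveI : QuasiIso (biprod.fst : F' ⊞ cyl0 F ⟶ F') := this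
  haveI : QuasiIso (graph α ≫ biprod.fst) := by rw [graph_fst]; infer_instance
  haveI : QuasiIso (graph α) := quasiIso_of_comp_right (graph α) biprod.fst
  haveI : QuasiIso (graphSES α).f := this
  exact acyclic_of_quasiIso_shortExact (graphSES_shortExact α)

/-- A functor of complexes preserving degreewise split short exact sequences and contractible
complexes sends `α` to a quasi-isomorphism once the image of the cokernel of the graph is
acyclic. -/
theorem quasiIso_map (T : CochainComplex A ℤ ⥤ CochainComplex B ℤ) [T.Additive]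
    [PreservesFiniteColimits T] (α : F ⟶ F')
    (hcyl : (T.obj (cyl0 F)).Acyclic) (hmono : Mono (T.map (graph α)))
    (hcok : (T.obj (cokernel (graph α))).Acyclic) : QuasiIso (T.map α) := by
  haveI := quasiIso_map_fst T (cyl0 F) F' hcyl
  haveI : QuasiIso (T.map (graph α)) :=
    quasiIso_of_shortExact (shortExact_of_mono T (graphSES_shortExact α) hmono) hcok
  rw [← graph_fst α, T.map_comp]
  infer_instance

end General

end Groth.Agent.Lib.SiteKFlat.Cx
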