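import Groth.Prelude.Def_KFlatSite
import Groth.Agent.Lib.DerivedOX.Bifunctor
import Groth.Agent.Lib.ModTensor.FlatMono
import Groth.Agent.Lib.ExtZero.Restr
import Groth.Agent.Lib.DerivedOX.LeftRes

/-!
# K-flat resolutions of complexes of modules on a ringed site
-/

set_option linter.style.haveILetI false

universe u

open CategoryTheory Limits HomologicalComplex
open ZeroObject

namespace Groth.Agent.Lib.SiteKFlat.Basic

open Groth.Agent.Lib.DerivedOX TrivCof LeftRes

variable {C : Type u} [SmallCategory C] {J : GrothendieckTopology C} {O : Sheaf J CommRingCat.{u}}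

instance isGrothendieckAbelian_mod : IsGrothendieckAbelian.{u} (ModSite.Mod O) :=
  DerivedOX.Grothendieck.isGrothendieckAbelian_sheafOfModules (ModSite.ringSh O)

variable (O) in
theorem isSeparating_gen :
    (ObjectProperty.ofObj fun U : C => ModSite.freeOn O U).IsSeparating := by
  intro F H f g hfg
  refine ExtZero.Restr.isSeparating_freeOn (O := O) Set.univ (fun X => ?_) f g ?_
  · refine ⟨PUnit.{u + 1}, fun _ => X, fun _ => 𝟙 X, ?_, fun _ => trivial⟩
    refine J.covering_of_eq_top (Sieve.id_mem_iff_eq_top.1 ?_)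
    exact Sieve.ofArrows_mk _ _ PUnit.unit
  · rintro _ ⟨W⟩ t
    exact hfg _ ⟨W.1⟩ t

theorem preservesFiniteLimits_left {G : ModSite.Mod O} (hG : ModSite.IsFlat G) :
    PreservesFiniteLimits ((ModSite.tensorBi O).obj G) :=
  haveI := hG.1
  preservesFiniteLimits_of_natIso (ModTensor.ModSite.flipObjIso G)

theorem preservesFiniteColimits_left (G : ModSite.Mod O) :
    PreservesFiniteColimits ((ModSite.tensorBi O).obj G) :=
  PreservesColimitsOfSize.preservesFiniteColimits _

instance hasCountableSums (n : ℤ) : HasColimitsOfShape (Discrete (Bifunctor.Fib n)) (ModSite.Mod O) :=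
  inferInstance

instance preservesMono_colim (n : ℤ) :
    (colim : (Discrete (Bifunctor.Fib n) ⥤ (ModSite.Mod O)) ⥤ (ModSite.Mod O)).PreservesMonomorphisms := by
  haveI : HasExactColimitsOfShape (Discrete (Bifunctor.Fib n)) (ModSite.Mod O) := by
    haveI : HasFiniteBiproducts (ModSite.Mod O) := HasFiniteBiproducts.of_hasFiniteProducts
    haveI := AB4.of_AB5 (ModSite.Mod O)
    exact AB4OfSize.ofShape _
  infer_instance

instance preservesColimits_tensorCx_obj (L : CochainComplex (ModSite.Mod O) ℤ) :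
    PreservesColimitsOfSize.{u, u} ((ModSite.tensorCx O).obj L) :=
  ⟨fun {_} _ => Bifunctor.preservesColimitsOfShape_obj (ModSite.tensorBi O) L⟩

instance preservesColimits_tensorCx_flip_obj (L : CochainComplex (ModSite.Mod O) ℤ) :
    PreservesColimitsOfSize.{u, u} ((ModSite.tensorCx O).flip.obj L) :=
  ⟨fun {_} _ => Bifunctor.preservesColimitsOfShape_flip_obj (ModSite.tensorBi O) L⟩

instance preservesZeroMorphisms_tensorCx_obj (L : CochainComplex (ModSite.Mod O) ℤ) :
    ((ModSite.tensorCx O).obj L).PreservesZeroMorphisms :=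
  ⟨fun A B => Bifunctor.obj_map_zero (ModSite.tensorBi O) L A B⟩

instance preservesZeroMorphisms_tensorCx_flip_obj (L : CochainComplex (ModSite.Mod O) ℤ) :
    ((ModSite.tensorCx O).flip.obj L).PreservesZeroMorphisms :=
  ⟨fun A B => Bifunctor.map_zero_app (ModSite.tensorBi O) A B L⟩

lemma acyclic_map {C D : Type*} [Category C] [Category D] [Abelian C] [Abelian D] (F : C ⥤ D)
    [F.Additive] [PreservesFiniteLimits F] [PreservesFiniteColimits F] {K : CochainComplex C ℤ}
    (hK : K.Acyclic) : ((F.mapHomologicalComplex (.up ℤ)).obj K).Acyclic :=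
  fun n => (hK n).map F

theorem acyclic_tensor_single {L : CochainComplex (ModSite.Mod O) ℤ} (hL : L.Acyclic) {G : (ModSite.Mod O)}
    (hG : ModSite.IsFlat G) (n : ℤ) :
    (((ModSite.tensorCx O).obj L).obj ((single (ModSite.Mod O) (.up ℤ) n).obj G)).Acyclic := by
  haveI := hG.1
  haveI : PreservesFiniteColimits ((ModSite.tensorBi O).flip.obj G) :=
    PreservesColimitsOfSize.preservesFiniteColimits _
  exact Bifunctor.acyclic_obj_single _ L n G (acyclic_map _ hL)

theorem acyclic_single_tensor {L : CochainComplex (ModSite.Mod O) ℤ} (hL : L.Acyclic) {G : (ModSite.Mod O)}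
    (hG : ModSite.IsFlat G) (n : ℤ) :
    (((ModSite.tensorCx O).obj ((single (ModSite.Mod O) (.up ℤ) n).obj G)).obj L).Acyclic := by
  haveI := preservesFiniteLimits_left hG
  haveI := preservesFiniteColimits_left G
  exact Bifunctor.acyclic_single_obj _ G n L (acyclic_map _ hL)

/-- A disk is contractible. -/
noncomputable def diskHomotopy {C : Type*} [Category C] [Abelian C] (A : C) (n : ℤ) :
    Homotopy (𝟙 (disk A n)) 0 where
  hom i j := if h : i = n + 1 ∧ j = n then
      eqToHom (by rw [h.1]) ≫ (diskIso₁ A n).hom ≫ (diskIso₀ A n).inv ≫ eqToHom (by rw [h.2]) else 0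
  zero i j hij := dif_neg fun h => hij (by simp [h.1, h.2])
  comm i := by
    rw [dNext_eq _ (show (ComplexShape.up ℤ).Rel i (i + 1) from rfl),
      prevD_eq _ (show (ComplexShape.up ℤ).Rel (i - 1) i by simp), zero_f, add_zero, id_f]
    by_cases h₀ : i = n
    · subst h₀
      rw [dif_pos ⟨rfl, rfl⟩, dif_neg (by omega), zero_comp, add_zero, disk_d]
      simp
    · by_cases h₁ : i = n + 1
      · subst h₁
        obtain hn : n + 1 - 1 = n := by omega
        rw [dif_neg (by omega), comp_zero, zero_add]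
        rw [dif_pos ⟨rfl, hn⟩]
        simp only [Category.assoc]
        rw [show eqToHom _ ≫ (disk A n).d (n + 1 - 1) (n + 1) = (disk A n).d n (n + 1) from
          (XIsoOfEq_inv_comp_d (disk A n) hn (n + 1)), disk_d]
        simp
      · exact (disk_isZero A n i h₀ h₁).eq_of_src _ _

theorem quasiIso_of_acyclic {C : Type*} [Category C] [Abelian C] {A B : CochainComplex C ℤ}
    (f : A ⟶ B) (hA : A.Acyclic) (hB : B.Acyclic) : QuasiIso f := by
  refine ⟨fun n => ?_⟩
  rw [quasiIsoAt_iff_isIso_homologyMap]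
  exact ⟨0, (hA n).isZero_homology.eq_of_src _ _, (hB n).isZero_homology.eq_of_src _ _⟩

theorem acyclic_cokernel {C : Type*} [Category C] [Abelian C] {A B : CochainComplex C ℤ}
    (f : A ⟶ B) [Mono f] (hA : A.Acyclic) (hB : B.Acyclic) : (cokernel f).Acyclic := by
  have hS : (ShortComplex.mk f _ (cokernel.condition f)).ShortExact :=
    { exact := ShortComplex.exact_cokernel f }
  intro n
  rw [exactAt_iff_isZero_homology]
  exact (hS.homology_exact₃ n (n + 1) rfl).isZero_X₂ ((hB n).isZero_homology.eq_of_src _ _)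
    ((hA (n + 1)).isZero_homology.eq_of_tgt _ _)

/-- The generators' separating family. -/
noncomputable abbrev G (O : Sheaf J CommRingCat.{u}) : C → (ModSite.Mod O) := fun U => ModSite.freeOn O U

theorem isZero_f_or_isIso_singleToDisk {C : Type*} [Category C] [Abelian C] (A : C) (n q : ℤ) :
    IsZero (((single C (.up ℤ) (n + 1)).obj A).X q) ∨ IsIso ((singleToDisk A n).f q) := by
  by_cases h : q = n + 1
  · subst h
    right
    simp [singleToDisk]
    exact (diskIso₁ A n).isIso_inv
  · exact Or.inl (isZero_single_obj_X _ _ _ _ h)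

/-- `L ⊗ -` sends the generating cofibrations to monomorphisms with acyclic cokernel. -/
theorem acycMono_tensor_genMap {L : CochainComplex (ModSite.Mod O) ℤ} (hL : L.Acyclic)
    (a : (C × ℤ) ⊕ (C × ℤ)) :
    acycMono (ModSite.Mod O) (((ModSite.tensorCx O).obj L).map (genMap (G O) a)) := by
  have hd : ∀ (U : C) (n : ℤ), (((ModSite.tensorCx O).obj L).obj (disk (ModSite.freeOn O U) n)).Acyclic :=
    fun U n => Bifunctor.acyclic_obj_of_homotopy_zero _ L (diskHomotopy (ModSite.freeOn O U) n)
  rcases a with ⟨U, n⟩ | ⟨U, n⟩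
  · have hz : IsZero (((ModSite.tensorCx O).obj L).obj (0 : CochainComplex (ModSite.Mod O) ℤ)) :=
      Functor.map_isZero _ (isZero_zero _)
    haveI : Mono (((ModSite.tensorCx O).obj L).map (genMap (G O) (Sum.inl (U, n)))) :=
      ⟨fun _ _ _ => hz.eq_of_tgt _ _⟩
    exact ⟨inferInstance, acyclic_cokernel _ (fun m => ExactAt.of_isZero
      ((HomologicalComplex.eval _ _ m).map_isZero hz)) (hd U n)⟩
  · haveI : Mono (((ModSite.tensorCx O).obj L).map (genMap (G O) (Sum.inr (U, n)))) := by
      refine Bifunctor.mono_obj_map _ L (singleToDisk (ModSite.freeOn O U) n) fun p q => ?_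
      rcases isZero_f_or_isIso_singleToDisk (ModSite.freeOn O U) n q with h | h
      · exact ⟨fun _ _ _ => (((ModSite.tensorBi O).obj (L.X p)).map_isZero h).eq_of_tgt _ _⟩
      · infer_instance
    exact ⟨inferInstance, acyclic_cokernel _ (acyclic_tensor_single hL (ExtZero.ModSite.isFlat_freeOn O U) _) (hd U n)⟩

/-- `- ⊗ L` sends the generating cofibrations to monomorphisms with acyclic cokernel. -/
theorem acycMono_genMap_tensor {L : CochainComplex (ModSite.Mod O) ℤ} (hL : L.Acyclic)
    (a : (C × ℤ) ⊕ (C × ℤ)) :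
    acycMono (ModSite.Mod O) (((ModSite.tensorCx O).flip.obj L).map (genMap (G O) a)) := by
  have hd : ∀ (U : C) (n : ℤ), (((ModSite.tensorCx O).obj (disk (ModSite.freeOn O U) n)).obj L).Acyclic :=
    fun U n => Bifunctor.acyclic_flip_obj_of_homotopy_zero _ (diskHomotopy (ModSite.freeOn O U) n) L
  rcases a with ⟨U, n⟩ | ⟨U, n⟩
  · have hz : IsZero (((ModSite.tensorCx O).flip.obj L).obj (0 : CochainComplex (ModSite.Mod O) ℤ)) :=
      Functor.map_isZero _ (isZero_zero _)
    haveI : Mono (((ModSite.tensorCx O).flip.obj L).map (genMap (G O) (Sum.inl (U, n)))) :=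
      ⟨fun _ _ _ => hz.eq_of_tgt _ _⟩
    exact ⟨inferInstance, acyclic_cokernel _ (fun m => ExactAt.of_isZero
      ((HomologicalComplex.eval _ _ m).map_isZero hz)) (hd U n)⟩
  · have hm : Mono (((ModSite.tensorCx O).map (singleToDisk (ModSite.freeOn O U) n)).app L) := by
      refine Bifunctor.mono_map_app (ModSite.tensorBi O) (singleToDisk (ModSite.freeOn O U) n) L fun p q => ?_
      rcases isZero_f_or_isIso_singleToDisk (ModSite.freeOn O U) n p with h | h
      · exact ⟨fun _ _ _ => (((ModSite.tensorBi O).map_isZero h).obj _).eq_of_tgt _ _⟩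
      · infer_instance
    haveI := hm
    exact ⟨hm, acyclic_cokernel (((ModSite.tensorCx O).map (singleToDisk (ModSite.freeOn O U) n)).app L)
      (acyclic_single_tensor hL (ExtZero.ModSite.isFlat_freeOn O U) (n + 1)) (hd U n)⟩

/-- Tensoring a cofibrant complex with an acyclic one gives an acyclic complex. -/
theorem acyclic_tensor_of_cof {P : CochainComplex (ModSite.Mod O) ℤ} (hP : cof (G O) (0 : 0 ⟶ P))
    {L : CochainComplex (ModSite.Mod O) ℤ} (hL : L.Acyclic) :
    (((ModSite.tensorCx O).obj L).obj P).Acyclic ∧ (((ModSite.tensorCx O).obj P).obj L).Acyclic := by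
  have key : ∀ (F : CochainComplex (ModSite.Mod O) ℤ ⥤ CochainComplex (ModSite.Mod O) ℤ)
      [PreservesColimitsOfSize.{u, u} F],
      (∀ a, acycMono (ModSite.Mod O) (F.map (genMap (G O) a))) → (F.obj P).Acyclic := by
    intro F _ hF
    haveI := isLeftAdjoint_of_preservesColimits F
    have h := cof_le_inverseImage F F.rightAdjoint (Adjunction.ofIsLeftAdjoint F) (testMaps _)
      (fun a => (acycMono_eq_llp (C := (ModSite.Mod O))) ▸ hF a) _ hP
    rw [MorphismProperty.inverseImage_iff, ← acycMono_eq_llp] at h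
    have hq : QuasiIso (F.map (0 : 0 ⟶ P)) := quasiIso_of_acycMono h
    intro n
    haveI : QuasiIsoAt (F.map (0 : 0 ⟶ P)) n := hq.quasiIsoAt n
    rw [← exactAt_iff_of_quasiIsoAt (F.map (0 : 0 ⟶ P)) n]
    exact ExactAt.of_isZero ((HomologicalComplex.eval _ _ n).map_isZero
      (F.map_isZero (isZero_zero _)))
  exact ⟨key ((ModSite.tensorCx O).obj L) (acycMono_tensor_genMap hL),
    key ((ModSite.tensorCx O).flip.obj L) (acycMono_genMap_tensor hL)⟩

theorem acyclic_iff (L : CochainComplex (ModSite.Mod O) ℤ) :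
    (∀ i, IsZero (L.homology i)) ↔ L.Acyclic :=
  forall_congr' fun i => (exactAt_iff_isZero_homology L i).symm

theorem isKFlat_iff (E : CochainComplex (ModSite.Mod O) ℤ) :
    ModSite.IsKFlat E ↔ ∀ L : CochainComplex (ModSite.Mod O) ℤ, L.Acyclic →
      (((ModSite.tensorCx O).obj L).obj E).Acyclic :=
  ⟨fun h L hL => (acyclic_iff _).1 (h L ((acyclic_iff L).2 hL)),
    fun h L hL => (acyclic_iff _).2 (h L ((acyclic_iff L).1 hL))⟩

theorem isFlat_sigma {ι : Type u} (M : ι → (ModSite.Mod O)) (hM : ∀ i, ModSite.IsFlat (M i)) :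
    ModSite.IsFlat (∐ M) :=
  ModTensor.Flat.isFlat_of_isColimit_discrete O M hM _ (colimit.isColimit _)

/-- Cofibrant complexes are K-flat. -/
theorem isKFlat_of_cof {P : CochainComplex (ModSite.Mod O) ℤ} (hP : cof (G O) (0 : 0 ⟶ P)) :
    ModSite.IsKFlat P :=
  (isKFlat_iff P).2 fun _ hL => (acyclic_tensor_of_cof hP hL).1

/-- The functorial K-flat resolution. -/
noncomputable abbrev res (O : Sheaf J CommRingCat.{u}) :
    CochainComplex (ModSite.Mod O) ℤ ⥤ CochainComplex (ModSite.Mod O) ℤ := resolution (G O)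

/-- The augmentation of the functorial K-flat resolution. -/
noncomputable abbrev aug (O : Sheaf J CommRingCat.{u}) : res O ⟶ 𝟭 _ := augmentation (G O)

theorem isKFlat_res (K : CochainComplex (ModSite.Mod O) ℤ) : ModSite.IsKFlat ((res O).obj K) :=
  isKFlat_of_cof (cof_resolution K)

theorem isFlat_res_X (K : CochainComplex (ModSite.Mod O) ℤ) (n : ℤ) :
    ModSite.IsFlat (((res O).obj K).X n) := by
  obtain ⟨r⟩ := exists_retract_of_cof (isSeparating_gen O) _ (cof_resolution (G := G O) K) n
  exact ModTensor.FlatMono.isFlat_of_retract r (isFlat_sigma _ fun a => ExtZero.ModSite.isFlat_freeOn O a.1)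

theorem epi_aug_f (K : CochainComplex (ModSite.Mod O) ℤ) (n : ℤ) : Epi (((aug O).app K).f n) :=
  (epi_quasiIso_of_rlp (isSeparating_gen O) _ (augmentation_rlp K)).1 n

instance quasiIso_aug (K : CochainComplex (ModSite.Mod O) ℤ) : QuasiIso ((aug O).app K) :=
  (epi_quasiIso_of_rlp (isSeparating_gen O) _ (augmentation_rlp K)).2

theorem exists_kFlat_resolution (K : CochainComplex (ModSite.Mod O) ℤ) :
    ∃ (P : CochainComplex (ModSite.Mod O) ℤ) (q : P ⟶ K), ModSite.IsKFlat P ∧
      (∀ n : ℤ, ModSite.IsFlat (P.X n)) ∧ QuasiIso q ∧ ∀ n : ℤ, Epi (q.f n) :=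
  ⟨_, (aug O).app K, isKFlat_res K, isFlat_res_X K, quasiIso_aug K, epi_aug_f K⟩

end Groth.Agent.Lib.SiteKFlat.Basic
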