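import Groth.Agent.Lib.SiteKFlat.Basic
import Mathlib.Algebra.Homology.ShortComplex.SnakeLemma
import Mathlib.Algebra.Homology.ShortComplex.Abelian
import Mathlib.Algebra.Homology.HomologicalComplexBiprod

/-!
# Tensoring short exact sequences with flat quotient
-/

set_option linter.style.haveILetI false

universe u

open CategoryTheory Limits

namespace Groth.Agent.Lib.SiteKFlat.Exact

variable {C : Type u} [SmallCategory C] {J : GrothendieckTopology C} {O : Sheaf J CommRingCat.{u}}

open Groth.Agent.Lib.ModTensor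

theorem exists_flat_epi (M : ModSite.Mod O) :
    ∃ (P : ModSite.Mod O) (π : P ⟶ M), ModSite.IsFlat P ∧ Epi π := by
  let T := Σ U : C, ModSite.freeOn O U ⟶ M
  refine ⟨∐ fun t : T => ModSite.freeOn O t.1, Sigma.desc fun t : T => t.2,
    Basic.isFlat_sigma _ fun t => ExtZero.ModSite.isFlat_freeOn O t.1, ?_⟩
  refine DerivedOX.LeftRes.epi_of_forall_lift (Basic.isSeparating_gen O) _ fun U g => ?_
  exact ⟨Sigma.ι (fun t : T => ModSite.freeOn O t.1) ⟨U, g⟩, by simp⟩

instance additive_obj (F : ModSite.Mod O) : ((ModSite.tensorBi O).obj F).Additive :=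
  ModSite.additive_tensorBi_obj O F

instance preservesFiniteColimits_flip (F : ModSite.Mod O) :
    PreservesFiniteColimits ((ModSite.tensorBi O).flip.obj F) :=
  PreservesColimitsOfSize.preservesFiniteColimits _

instance preservesFiniteColimits_obj (F : ModSite.Mod O) :
    PreservesFiniteColimits ((ModSite.tensorBi O).obj F) :=
  PreservesColimitsOfSize.preservesFiniteColimits _

/-- A right exact functor applied to a short exact sequence. -/
theorem exact_map_of_rightExact {A B : Type*} [Category A] [Category B] [Abelian A] [Abelian B]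
    (T : A ⥤ B) [T.Additive] [PreservesFiniteColimits T] {S : ShortComplex A} (hS : S.ShortExact) :
    (S.map T).Exact ∧ Epi (S.map T).g :=
  haveI := hS.epi_g
  ⟨ShortComplex.exact_of_g_is_cokernel _
      (CokernelCofork.mapIsColimit _ hS.gIsCokernel T),
    inferInstanceAs (Epi (T.map S.g))⟩

/-- Tensoring a short exact sequence with flat third term keeps the first map monic. -/
theorem mono_map_of_flat₃ {S : ShortComplex (ModSite.Mod O)} (hS : S.ShortExact)
    (hF : ModSite.IsFlat S.X₃) (G : ModSite.Mod O) :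
    Mono (((ModSite.tensorBi O).flip.obj G).map S.f) := by
  obtain ⟨P, π, hP, hπ⟩ := exists_flat_epi G
  let R : ShortComplex (ModSite.Mod O) := ShortComplex.mk _ _ (kernel.condition π)
  have hR : R.ShortExact := { exact := ShortComplex.exact_kernel π }
  let T := (ModSite.tensorBi O).flip
  let L₁ := S.map (T.obj (kernel π))
  let L₂ := S.map (T.obj P)
  let L₃ := S.map (T.obj G)
  let v₁₂ : L₁ ⟶ L₂ := S.mapNatTrans (T.map (kernel.ι π))
  let v₂₃ : L₂ ⟶ L₃ := S.mapNatTrans (T.map π)
  have hT : T.map (kernel.ι π) ≫ T.map π = 0 :=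
    (T.map_comp _ _).symm.trans ((congrArg T.map (kernel.condition π)).trans (T.map_zero _ _))
  have w : v₁₂ ≫ v₂₃ = 0 :=
    ShortComplex.hom_ext _ _ (congrArg (fun α => α.app S.X₁) hT)
      (congrArg (fun α => α.app S.X₂) hT) (congrArg (fun α => α.app S.X₃) hT)
  haveI := hP.1
  obtain ⟨h₁, h₁'⟩ := exact_map_of_rightExact (T.obj (kernel π)) hS
  have h₂ : L₂.ShortExact := hS.map_of_exact (T.obj P)
  obtain ⟨e₁, e₁'⟩ := exact_map_of_rightExact ((ModSite.tensorBi O).obj S.X₁) hR
  obtain ⟨e₂, e₂'⟩ := exact_map_of_rightExact ((ModSite.tensorBi O).obj S.X₂) hR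
  obtain ⟨e₃, e₃'⟩ := exact_map_of_rightExact ((ModSite.tensorBi O).obj S.X₃) hR
  have hv : IsColimit (CokernelCofork.ofπ v₂₃ w) := by
    refine ShortComplex.isColimitOfIsColimitπ _ ?_ ?_ ?_
    · refine (isColimitMapCoconeCoforkEquiv ShortComplex.π₁ _).symm ?_
      exact IsColimit.ofIsoColimit e₁.gIsCokernel (Cofork.ext (Iso.refl _))
    · refine (isColimitMapCoconeCoforkEquiv ShortComplex.π₂ _).symm ?_
      exact IsColimit.ofIsoColimit e₂.gIsCokernel (Cofork.ext (Iso.refl _))
    · refine (isColimitMapCoconeCoforkEquiv ShortComplex.π₃ _).symm ?_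
      exact IsColimit.ofIsoColimit e₃.gIsCokernel (Cofork.ext (Iso.refl _))
  let Sn : ShortComplex.SnakeInput (ModSite.Mod O) :=
    { L₀ := kernel v₁₂
      L₁ := L₁
      L₂ := L₂
      L₃ := L₃
      v₀₁ := kernel.ι v₁₂
      v₁₂ := v₁₂
      v₂₃ := v₂₃
      w₀₂ := kernel.condition v₁₂
      w₁₃ := w
      h₀ := kernelIsKernel v₁₂
      h₃ := hv
      L₁_exact := h₁
      L₂_exact := h₂.exact
      epi_L₁_g := h₁'
      mono_L₂_f := h₂.mono_f }
  have hz : IsZero Sn.L₀.X₃ := by
    haveI : Mono v₁₂.τ₃ := by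
      haveI : PreservesFiniteLimits ((ModSite.tensorBi O).obj S.X₃) :=
        Basic.preservesFiniteLimits_left hF
      exact inferInstanceAs (Mono (((ModSite.tensorBi O).obj S.X₃).map (kernel.ι π)))
    haveI : Mono Sn.v₀₁.τ₃ := inferInstanceAs (Mono (ShortComplex.π₃.map (kernel.ι v₁₂)))
    refine IsZero.of_mono_eq_zero Sn.v₀₁.τ₃ ?_
    rw [← cancel_mono v₁₂.τ₃, zero_comp]
    exact congrArg ShortComplex.Hom.τ₃ Sn.w₀₂
  exact Sn.L₂'_exact.mono_g (hz.eq_of_src _ _)

theorem shortExact_map_of_flat₃ {S : ShortComplex (ModSite.Mod O)} (hS : S.ShortExact)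
    (hF : ModSite.IsFlat S.X₃) (G : ModSite.Mod O) :
    (S.map ((ModSite.tensorBi O).flip.obj G)).ShortExact :=
  { exact := (exact_map_of_rightExact _ hS).1
    mono_f := mono_map_of_flat₃ hS hF G
    epi_g := (exact_map_of_rightExact _ hS).2 }

/-- The same, tensoring on the other side. -/
theorem mono_map_obj_of_flat₃ {S : ShortComplex (ModSite.Mod O)} (hS : S.ShortExact)
    (hF : ModSite.IsFlat S.X₃) (G : ModSite.Mod O) :
    Mono (((ModSite.tensorBi O).obj G).map S.f) := by
  haveI := mono_map_of_flat₃ hS hF G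
  exact (NatIso.naturality_1 (ModTensor.ModSite.flipObjIso G) S.f) ▸ inferInstance

theorem isFlat_middle {S : ShortComplex (ModSite.Mod O)} (hS : S.ShortExact)
    (h₁ : ModSite.IsFlat S.X₁) (h₃ : ModSite.IsFlat S.X₃) : ModSite.IsFlat S.X₂ := by
  rw [FlatMono.isFlat_iff_mono] at *
  intro G G' f hf
  haveI := hf
  let φ : S.map ((ModSite.tensorBi O).obj G) ⟶ S.map ((ModSite.tensorBi O).obj G') :=
    S.mapNatTrans ((ModSite.tensorBi O).map f)
  have hG : (S.map ((ModSite.tensorBi O).obj G)).Exact :=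
    (exact_map_of_rightExact _ hS).1
  haveI : Mono ((S.map ((ModSite.tensorBi O).obj G)).f) :=
    mono_map_obj_of_flat₃ hS ((FlatMono.isFlat_iff_mono _).2 h₃) G
  haveI : Mono ((S.map ((ModSite.tensorBi O).obj G')).f) :=
    mono_map_obj_of_flat₃ hS ((FlatMono.isFlat_iff_mono _).2 h₃) G'
  haveI : Mono φ.τ₁ := h₁ f hf
  haveI : Mono φ.τ₃ := h₃ f hf
  exact ShortComplex.mono_τ₂_of_exact_of_mono φ hG

theorem isFlat_left {S : ShortComplex (ModSite.Mod O)} (hS : S.ShortExact)
    (h₂ : ModSite.IsFlat S.X₂) (h₃ : ModSite.IsFlat S.X₃) : ModSite.IsFlat S.X₁ := by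
  rw [FlatMono.isFlat_iff_mono] at h₂ ⊢
  intro G G' f hf
  haveI := hf
  haveI : Mono (((ModSite.tensorBi O).map f).app S.X₂) := h₂ f hf
  haveI := mono_map_obj_of_flat₃ hS h₃ G
  haveI : Mono (((ModSite.tensorBi O).map f).app S.X₁ ≫ ((ModSite.tensorBi O).obj G').map S.f) := by
    rw [← NatTrans.naturality]
    infer_instance
  exact mono_of_mono (((ModSite.tensorBi O).map f).app S.X₁) (((ModSite.tensorBi O).obj G').map S.f)

end Groth.Agent.Lib.SiteKFlat.Exact
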