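import Groth.Agent.Lib.SiteKFlat.Cx
import Groth.Agent.Lib.SiteKFlat.Trunc

/-!
# Permanence properties of K-flat complexes on a ringed site
-/

set_option linter.style.haveILetI false

universe u

open CategoryTheory Limits HomologicalComplex

namespace Groth.Agent.Lib.SiteKFlat.Thms

open Groth.Agent.Lib.DerivedOX Groth.Agent.Lib.SiteKFlat.Cx

set_option maxHeartbeats 400000

variable {C : Type u} [SmallCategory C] {J : GrothendieckTopology C} {O : Sheaf J CommRingCat.{u}}

instance hasBinaryBiproducts_cx : HasBinaryBiproducts (CochainComplex (ModSite.Mod O) ℤ) :=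
  HasBinaryBiproducts.of_hasBinaryProducts

instance preservesFiniteColimits_tensorCx_obj (L : CochainComplex (ModSite.Mod O) ℤ) :
    PreservesFiniteColimits ((ModSite.tensorCx O).obj L) :=
  PreservesColimitsOfSize.preservesFiniteColimits _

instance preservesFiniteColimits_tensorCx_flip_obj (L : CochainComplex (ModSite.Mod O) ℤ) :
    PreservesFiniteColimits ((ModSite.tensorCx O).flip.obj L) :=
  PreservesColimitsOfSize.preservesFiniteColimits _

instance additive_tensorCx_obj (L : CochainComplex (ModSite.Mod O) ℤ) :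
    ((ModSite.tensorCx O).obj L).Additive :=
  haveI := preservesBinaryBiproducts_of_preservesBinaryCoproducts ((ModSite.tensorCx O).obj L)
  Functor.additive_of_preservesBinaryBiproducts _

instance additive_tensorCx_flip_obj (L : CochainComplex (ModSite.Mod O) ℤ) :
    ((ModSite.tensorCx O).flip.obj L).Additive :=
  haveI := preservesBinaryBiproducts_of_preservesBinaryCoproducts ((ModSite.tensorCx O).flip.obj L)
  Functor.additive_of_preservesBinaryBiproducts _

/-- `L ⊗ -` of a degreewise split mono is mono. -/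
theorem mono_obj_map_of_split {S : ShortComplex (CochainComplex (ModSite.Mod O) ℤ)}
    (σ : ∀ n, (S.map (HomologicalComplex.eval _ _ n)).Splitting)
    (L : CochainComplex (ModSite.Mod O) ℤ) : Mono (((ModSite.tensorCx O).obj L).map S.f) :=
  Bifunctor.mono_obj_map _ L S.f fun p q => by
    haveI : IsSplitMono (S.f.f q) := IsSplitMono.mk' ⟨(σ q).r, (σ q).f_r⟩
    infer_instance

/-- `- ⊗ G` of a degreewise split mono is mono. -/
theorem mono_map_app_of_split {S : ShortComplex (CochainComplex (ModSite.Mod O) ℤ)}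
    (σ : ∀ n, (S.map (HomologicalComplex.eval _ _ n)).Splitting)
    (G : CochainComplex (ModSite.Mod O) ℤ) : Mono (((ModSite.tensorCx O).flip.obj G).map S.f) :=
  Bifunctor.mono_map_app _ S.f G fun p q => by
    haveI : IsSplitMono (S.f.f p) := IsSplitMono.mk' ⟨(σ p).r, (σ p).f_r⟩
    exact inferInstanceAs (Mono (((ModSite.tensorBi O).flip.obj (G.X q)).map (S.f.f p)))

/-- `L ⊗ -` of a mono with flat cokernel terms is mono. -/
theorem mono_obj_map_of_flat₃ {S : ShortComplex (CochainComplex (ModSite.Mod O) ℤ)}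
    (hS : S.ShortExact) (h : ∀ n, ModSite.IsFlat (S.X₃.X n))
    (L : CochainComplex (ModSite.Mod O) ℤ) : Mono (((ModSite.tensorCx O).obj L).map S.f) :=
  Bifunctor.mono_obj_map _ L S.f fun p q =>
    Exact.mono_map_obj_of_flat₃ (hS.map_of_exact (HomologicalComplex.eval _ _ q)) (h q) (L.X p)

/-- Two out of three for K-flatness in a short exact sequence staying exact after tensoring. -/
theorem two_of_three {S : ShortComplex (CochainComplex (ModSite.Mod O) ℤ)} (hS : S.ShortExact)
    (hm : ∀ L, Mono (((ModSite.tensorCx O).obj L).map S.f)) :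
    (ModSite.IsKFlat S.X₁ → ModSite.IsKFlat S.X₂ → ModSite.IsKFlat S.X₃) ∧
    (ModSite.IsKFlat S.X₁ → ModSite.IsKFlat S.X₃ → ModSite.IsKFlat S.X₂) ∧
    (ModSite.IsKFlat S.X₂ → ModSite.IsKFlat S.X₃ → ModSite.IsKFlat S.X₁) := by
  simp only [Basic.isKFlat_iff]
  exact ⟨fun h₁ h₂ L hL => acyclic_X₃ (shortExact_of_mono _ hS (hm L)) (h₁ L hL) (h₂ L hL),
    fun h₁ h₃ L hL => acyclic_X₂ (shortExact_of_mono _ hS (hm L)) (h₁ L hL) (h₃ L hL),
    fun h₂ h₃ L hL => acyclic_X₁ (shortExact_of_mono _ hS (hm L)) (h₂ L hL) (h₃ L hL)⟩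

theorem two_of_three_split {S : ShortComplex (CochainComplex (ModSite.Mod O) ℤ)}
    (σ : ∀ n, (S.map (HomologicalComplex.eval _ _ n)).Splitting) :
    (ModSite.IsKFlat S.X₁ → ModSite.IsKFlat S.X₂ → ModSite.IsKFlat S.X₃) ∧
    (ModSite.IsKFlat S.X₁ → ModSite.IsKFlat S.X₃ → ModSite.IsKFlat S.X₂) ∧
    (ModSite.IsKFlat S.X₂ → ModSite.IsKFlat S.X₃ → ModSite.IsKFlat S.X₁) :=
  two_of_three (shortExact_of_degreewise_shortExact S fun n => (σ n).shortExact)
    (mono_obj_map_of_split σ)

theorem isKFlat_of_homotopy_zero {E : CochainComplex (ModSite.Mod O) ℤ} (h : Homotopy (𝟙 E) 0) :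
    ModSite.IsKFlat E :=
  (Basic.isKFlat_iff E).2 fun L _ => Bifunctor.acyclic_obj_of_homotopy_zero _ L h

theorem acyclic_of_quasiIso {B : Type*} [Category B] [Abelian B] {K L : CochainComplex B ℤ}
    (f : K ⟶ L) [QuasiIso f] (hL : L.Acyclic) : K.Acyclic := fun n => by
  rw [exactAt_iff_of_quasiIsoAt f n]
  exact hL n

theorem acyclic_of_quasiIso' {B : Type*} [Category B] [Abelian B] {K L : CochainComplex B ℤ}
    (f : K ⟶ L) [QuasiIso f] (hK : K.Acyclic) : L.Acyclic := fun n => by
  rw [← exactAt_iff_of_quasiIsoAt f n]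
  exact hK n

theorem isKFlat_biprod_cyl0 {Q : CochainComplex (ModSite.Mod O) ℤ} (hQ : ModSite.IsKFlat Q)
    (P : CochainComplex (ModSite.Mod O) ℤ) : ModSite.IsKFlat (Q ⊞ cyl0 P) := by
  rw [Basic.isKFlat_iff] at hQ ⊢
  intro L hL
  haveI := quasiIso_map_fst ((ModSite.tensorCx O).obj L) (cyl0 P) Q
    (Bifunctor.acyclic_obj_of_homotopy_zero _ L (CochainComplex.mappingCone.homotopyToZeroOfId P))
  exact acyclic_of_quasiIso (((ModSite.tensorCx O).obj L).map (biprod.fst : Q ⊞ cyl0 P ⟶ Q))
    (hQ L hL)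

theorem isKFlat_of_iso {K L : CochainComplex (ModSite.Mod O) ℤ} (e : K ≅ L)
    (hK : ModSite.IsKFlat K) : ModSite.IsKFlat L := by
  rw [Basic.isKFlat_iff] at hK ⊢
  exact fun F hF => acyclic_of_quasiIso' (((ModSite.tensorCx O).obj F).map e.hom) (hK F hF)

theorem acyclic_flip_of_isKFlat {K : CochainComplex (ModSite.Mod O) ℤ} (hK : ModSite.IsKFlat K)
    (L : CochainComplex (ModSite.Mod O) ℤ) (hL : L.Acyclic) :
    (((ModSite.tensorCx O).flip.obj K).obj L).Acyclic :=
  (Basic.isKFlat_iff K).1 hK L hL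

/-- Tensoring with a K-flat complex preserves quasi-isomorphisms. -/
theorem quasiIso_tensor_of_isKFlat {K : CochainComplex (ModSite.Mod O) ℤ} (hK : ModSite.IsKFlat K)
    {F F' : CochainComplex (ModSite.Mod O) ℤ} (φ : F ⟶ F') [QuasiIso φ] :
    QuasiIso (((ModSite.tensorCx O).flip.obj K).map φ) := by
  have h₁ : (((ModSite.tensorCx O).flip.obj K).obj (cyl0 F)).Acyclic :=
    Bifunctor.acyclic_flip_obj_of_homotopy_zero _
      (CochainComplex.mappingCone.homotopyToZeroOfId F) K
  have h₂ : Mono (((ModSite.tensorCx O).flip.obj K).map (graph φ)) :=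
    mono_map_app_of_split (graphSplitting φ) K
  have h₃ : (((ModSite.tensorCx O).flip.obj K).obj (cokernel (graph φ))).Acyclic :=
    acyclic_flip_of_isKFlat hK _ (acyclic_graph_cokernel φ)
  exact quasiIso_map ((ModSite.tensorCx O).flip.obj K) φ h₁ h₂ h₃

/-- Tensoring anything with an acyclic K-flat complex gives an acyclic complex. -/
theorem acyclic_tensor_of_acyclic_isKFlat {C' : CochainComplex (ModSite.Mod O) ℤ} (hC : C'.Acyclic)
    (hK : ModSite.IsKFlat C') (F : CochainComplex (ModSite.Mod O) ℤ) :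
    (((ModSite.tensorCx O).obj F).obj C').Acyclic := by
  haveI := quasiIso_tensor_of_isKFlat hK ((Basic.aug O).app F)
  exact acyclic_of_quasiIso' (((ModSite.tensorCx O).flip.obj C').map ((Basic.aug O).app F))
    (Basic.acyclic_tensor_of_cof (LeftRes.cof_resolution (G := Basic.G O) F) hC).2

/-- A quasi-isomorphism of K-flat complexes stays one after tensoring with anything. -/
theorem quasiIso_tensor_of_isKFlat_isKFlat {P Q : CochainComplex (ModSite.Mod O) ℤ}
    (hP : ModSite.IsKFlat P) (hQ : ModSite.IsKFlat Q) (α : P ⟶ Q) [QuasiIso α]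
    (F : CochainComplex (ModSite.Mod O) ℤ) :
    QuasiIso (((ModSite.tensorCx O).obj F).map α) :=
  quasiIso_map _ α
    (Bifunctor.acyclic_obj_of_homotopy_zero _ F (CochainComplex.mappingCone.homotopyToZeroOfId P))
    (mono_obj_map_of_split (graphSplitting α) F)
    (acyclic_tensor_of_acyclic_isKFlat (acyclic_graph_cokernel α)
      ((two_of_three_split (graphSplitting α)).1 hP (isKFlat_biprod_cyl0 hQ P)) F)

/-- A complex concentrated in one degree with flat term is K-flat. -/
theorem isKFlat_single {M : ModSite.Mod O} (hM : ModSite.IsFlat M) (n : ℤ) :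
    ModSite.IsKFlat ((single (ModSite.Mod O) (.up ℤ) n).obj M) :=
  (Basic.isKFlat_iff _).2 fun _ hL => Basic.acyclic_tensor_single hL hM n

instance hasExactColimitsOfShape_nat : HasExactColimitsOfShape ℕ (ModSite.Mod O) := by
  haveI := AB5OfSize_of_univLE.{0, 0, u, u} (ModSite.Mod O)
  exact AB5OfSize.ofShape ℕ

/-- Sequential colimits of K-flat complexes are K-flat. -/
theorem isKFlat_of_isColimit {D : ℕ ⥤ CochainComplex (ModSite.Mod O) ℤ} {cc : Cocone D}
    (hcc : IsColimit cc) (hD : ∀ k, ModSite.IsKFlat (D.obj k)) : ModSite.IsKFlat cc.pt := by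
  simp only [Basic.isKFlat_iff] at hD ⊢
  intro L hL
  haveI : PreservesColimitsOfSize.{0, 0} ((ModSite.tensorCx O).obj L) :=
    preservesSmallestColimits_of_preservesColimits _
  exact Trunc.acyclic_of_isColimit (isColimitOfPreserves ((ModSite.tensorCx O).obj L) hcc)
    fun k => hD k L hL

/-- Bounded above complexes of flat modules are K-flat. -/
theorem isKFlat_of_bounded_above (K : CochainComplex (ModSite.Mod O) ℤ) (b : ℤ)
    [K.IsStrictlyLE b] (hfl : ∀ n, ModSite.IsFlat (K.X n)) : ModSite.IsKFlat K := by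
  suffices hk : ∀ k : ℕ, ModSite.IsKFlat (Trunc.trunc K (b + 1 - (k : ℤ))) by
    have h := isKFlat_of_isColimit (D := Trunc.seq K (b + 1)) (cc := Trunc.seqCocone K (b + 1))
      (Trunc.isColimitSeqCocone K (b + 1)) hk
    exact h
  intro k
  induction k with
  | zero =>
    haveI := Trunc.isStrictlyLE_trunc K (b + 1 - ((0 : ℕ) : ℤ)) b
    have hz : IsZero (Trunc.trunc K (b + 1 - ((0 : ℕ) : ℤ))) := by
      rw [IsZero.iff_id_eq_zero]
      ext i : 1
      by_cases hi : i ≤ b
      · exact (Trunc.isZero_tX K (c := b + 1 - ((0 : ℕ) : ℤ)) (by omega)).eq_of_src _ _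
      · exact ((Trunc.trunc K _).isZero_of_isStrictlyLE b i (by omega)).eq_of_src _ _
    exact isKFlat_of_homotopy_zero (Homotopy.ofEq (hz.eq_of_src _ _))
  | succ k ih =>
    let c := b + 1 - ((k + 1 : ℕ) : ℤ)
    have hc : c ≤ b + 1 - (k : ℤ) := by omega
    let t := Trunc.transition K hc
    haveI : Mono t := mono_of_mono_f t fun i => Trunc.mono_transition_f K hc i
    let S := ShortComplex.mk t _ (cokernel.condition t)
    have hS : S.ShortExact := { exact := ShortComplex.exact_cokernel t }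
    have hm : ∀ L, Mono (((ModSite.tensorCx O).obj L).map S.f) := fun L =>
      Bifunctor.mono_obj_map _ L t fun p q =>
        Trunc.mono_map_transition_f K hc q ((ModSite.tensorBi O).obj (L.X p))
    refine (two_of_three hS hm).2.1 ih ?_
    have hi : ∀ i, i ≠ c → IsZero (S.X₃.X i) := by
      intro i hi
      haveI : Epi (S.g.f i) := inferInstanceAs (Epi ((HomologicalComplex.eval _ _ i).map S.g))
      refine IsZero.of_epi_eq_zero (S.g.f i) ?_
      by_cases h : c < i
      · haveI := Trunc.isIso_transition_f K hc (i := i) (by omega)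
        rw [← cancel_epi (t.f i), ← comp_f, comp_zero]
        exact congrArg (fun f => f.f i) S.zero
      · exact (Trunc.isZero_tX K (c := c) (by omega)).eq_of_src _ _
    haveI : CochainComplex.IsStrictlyGE S.X₃ c := by
      rw [CochainComplex.isStrictlyGE_iff]
      exact fun i h => hi i (by omega)
    haveI : CochainComplex.IsStrictlyLE S.X₃ c := by
      rw [CochainComplex.isStrictlyLE_iff]
      exact fun i h => hi i (by omega)
    obtain ⟨M, ⟨e⟩⟩ := CochainComplex.exists_iso_single S.X₃ c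
    refine isKFlat_of_iso e.symm (isKFlat_single ?_ c)
    have hz : IsZero ((Trunc.trunc K (b + 1 - (k : ℤ))).X c) := Trunc.isZero_tX K (by omega)
    haveI : Mono (S.g.f c) :=
      ((hS.map_of_exact (HomologicalComplex.eval _ _ c)).exact).mono_g (hz.eq_of_src _ _)
    haveI : Epi (S.g.f c) := inferInstanceAs (Epi ((HomologicalComplex.eval _ _ c).map S.g))
    have hiso : IsIso (S.g.f c) := isIso_of_mono_of_epi _
    haveI := Trunc.isIso_tι K (le_refl c)
    exact ModTensor.Flat.isFlat_of_iso O ((asIso (Trunc.tι K c c)).symm ≪≫ @asIso _ _ _ _ (S.g.f c) hiso ≪≫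
      (HomologicalComplex.eval _ _ c).mapIso e ≪≫ singleObjXSelf (.up ℤ) c M) (hfl c)

end Groth.Agent.Lib.SiteKFlat.Thms
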