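import Groth.Agent.Lib.SiteKFlat.Thms

/-!
# Cycles of acyclic complexes of flat modules
-/

set_option linter.style.haveILetI false

universe u

open CategoryTheory Limits HomologicalComplex

namespace Groth.Agent.Lib.SiteKFlat.Cycles

open Groth.Agent.Lib.DerivedOX

variable {C : Type u} [SmallCategory C] {J : GrothendieckTopology C} {O : Sheaf J CommRingCat.{u}}

/-- If `S₁` (with epimorphic second map) becomes exact under a right exact functor and its middle
map continues exactly, the induced map out of the cokernel is monic. -/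
theorem mono_of_exact {A : Type*} [Category A] [Abelian A] {X Y Z D : A} {f : X ⟶ Y} {p : Y ⟶ Z}
    [Epi p] (hp : f ≫ p = 0) (m : Z ⟶ D) (w : f ≫ p ≫ m = 0)
    (h : (ShortComplex.mk f (p ≫ m) w).Exact) : Mono m := by
  refine Preadditive.mono_of_cancel_zero _ fun {P} g hg => ?_
  obtain ⟨P₁, π, hπ, x, hx⟩ := surjective_up_to_refinements_of_epi p g
  obtain ⟨P₂, π', hπ', y, hy⟩ := h.exact_up_to_refinements x (by
    change x ≫ p ≫ m = 0
    rw [← reassoc_of% hx, hg, comp_zero])
  change π' ≫ x = y ≫ f at hy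
  rw [← cancel_epi π, ← cancel_epi π', hx, ← Category.assoc, hy, Category.assoc, hp,
    comp_zero, comp_zero, comp_zero]

theorem acyclic_obj_of_acyclic_single (G : ModSite.Mod O) {K : CochainComplex (ModSite.Mod O) ℤ}
    (h : (((ModSite.tensorCx O).obj ((single _ (.up ℤ) 0).obj G)).obj K).Acyclic) :
    ((((ModSite.tensorBi O).obj G).mapHomologicalComplex (.up ℤ)).obj K).Acyclic := fun m => by
  have hex := h m
  rw [exactAt_iff' _ (m - 1) m (m + 1) (by simp) (by simp)] at hex
  rw [exactAt_iff' _ (m - 1) m (m + 1) (by simp) (by simp)]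
  refine (ShortComplex.exact_iff_of_iso ?_).2 hex
  let e := fun q : ℤ => @asIso _ _ _ _
    (Bifunctor.singleHom₁ (ModSite.tensorBi O) G 0 K q q (zero_add q))
    (Bifunctor.isIso_singleHom₁ (ModSite.tensorBi O) G 0 K q q (zero_add q))
  refine ShortComplex.isoMk (e (m - 1)) (e m) (e (m + 1)) ?_ ?_
  · exact (Bifunctor.singleHom₁_d (ModSite.tensorBi O) G 0 K (m - 1) m (m - 1) m (zero_add _)
      (zero_add _) (by omega)).trans (by rw [Int.negOnePow_zero, one_smul]; rfl)
  · exact (Bifunctor.singleHom₁_d (ModSite.tensorBi O) G 0 K m (m + 1) m (m + 1) (zero_add _)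
      (zero_add _) rfl).trans (by rw [Int.negOnePow_zero, one_smul]; rfl)

section Generic

variable {A B : Type*} [Category A] [Category B] [Abelian A] [Abelian B]
  (T : A ⥤ B) [T.Additive] [PreservesFiniteColimits T]

omit [T.Additive] [PreservesFiniteColimits T] in
theorem epi_toCycles {ι : Type*} {c : ComplexShape ι} (K : HomologicalComplex A c) (i j : ι)
    (hij : c.prev j = i) (h : K.ExactAt j) : Epi (K.toCycles i j) :=
  (ShortComplex.exact_of_g_is_cokernel
    (ShortComplex.mk (K.toCycles i j) (K.homologyπ j) (K.toCycles_comp_homologyπ i j))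
    (K.homologyIsCokernel i j hij)).epi_f (h.isZero_homology.eq_of_tgt _ _)

/-- A right exact functor keeping `K` exact at `k` keeps `Z^{k+1} ⟶ K^{k+1}` monic. -/
theorem mono_map_iCycles (K : CochainComplex A ℤ) (k : ℤ)
    (h₁ : ((T.mapHomologicalComplex (.up ℤ)).obj K).ExactAt k) (h₂ : K.ExactAt (k + 1)) :
    Mono (T.map (K.iCycles (k + 1))) := by
  haveI := epi_toCycles K k (k + 1) (by simp) h₂
  haveI : Epi (T.map (K.toCycles k (k + 1))) := inferInstance
  rw [exactAt_iff' _ (k - 1) k (k + 1) (by simp) (by simp)] at h₁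
  refine mono_of_exact (f := T.map (K.d (k - 1) k)) (p := T.map (K.toCycles k (k + 1)))
    ?_ _ ?_ ?_
  · rw [← T.map_comp, show K.d (k - 1) k ≫ K.toCycles k (k + 1) = 0 by
      rw [← cancel_mono (K.iCycles (k + 1))]; simp, T.map_zero]
  · rw [← T.map_comp, ← T.map_comp, toCycles_i, K.d_comp_d, T.map_zero]
  · refine (ShortComplex.exact_iff_of_iso ?_).1 h₁
    refine ShortComplex.isoMk (Iso.refl _) (Iso.refl _) (Iso.refl _) ?_ ?_
    · exact (Category.id_comp _).trans (Category.comp_id _).symm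
    · exact (Category.id_comp _).trans (((T.map_comp _ _).symm.trans
        (congrArg T.map (K.toCycles_i k (k + 1)))).trans (Category.comp_id _).symm)

omit [PreservesFiniteColimits T] in
/-- Exactness of the image of a chain complex from exactness of the images of the cycle
sequences. -/
theorem exactAt_map_chain (M : ChainComplex A ℤ) (i : ℤ) (w) [Epi (T.map (M.toCycles (i + 1) i))]
    [Mono (T.map (M.iCycles (i - 1)))]
    (hT : ((ShortComplex.mk (M.iCycles i) (M.toCycles i (i - 1)) w).map T).Exact) :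
    ((T.mapHomologicalComplex (.down ℤ)).obj M).ExactAt i := by
  rw [exactAt_iff' _ (i + 1) i (i - 1) (by simp) (by simp)]
  let A₀ := ShortComplex.mk (T.map (M.d (i + 1) i)) (T.map (M.toCycles i (i - 1))) (by
    rw [← T.map_comp, show M.d (i + 1) i ≫ M.toCycles i (i - 1) = 0 by
      rw [← cancel_mono (M.iCycles (i - 1))]; simp, T.map_zero])
  let φ₀ : A₀ ⟶ (ShortComplex.mk (M.iCycles i) (M.toCycles i (i - 1)) w).map T :=
    { τ₁ := T.map (M.toCycles (i + 1) i)
      τ₂ := 𝟙 _
      τ₃ := 𝟙 _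
      comm₁₂ := ((T.map_comp _ _).symm.trans (congrArg T.map (M.toCycles_i (i + 1) i))).trans
        (Category.comp_id _).symm
      comm₂₃ := (Category.id_comp _).trans (Category.comp_id _).symm }
  haveI : Epi φ₀.τ₁ := inferInstanceAs (Epi (T.map (M.toCycles (i + 1) i)))
  haveI : IsIso φ₀.τ₂ := inferInstanceAs (IsIso (𝟙 _))
  haveI : Mono φ₀.τ₃ := inferInstanceAs (Mono (𝟙 _))
  have hA : A₀.Exact := (ShortComplex.exact_iff_of_epi_of_isIso_of_mono φ₀).2 hT
  let φ₁ : A₀ ⟶ ((T.mapHomologicalComplex (.down ℤ)).obj M).sc' (i + 1) i (i - 1) :=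
    { τ₁ := 𝟙 _
      τ₂ := 𝟙 _
      τ₃ := T.map (M.iCycles (i - 1))
      comm₁₂ := (Category.id_comp _).trans (Category.comp_id _).symm
      comm₂₃ := (Category.id_comp _).trans
        (((T.map_comp _ _).symm.trans (congrArg T.map (M.toCycles_i i (i - 1)))).symm) }
  haveI : Epi φ₁.τ₁ := inferInstanceAs (Epi (𝟙 _))
  haveI : IsIso φ₁.τ₂ := inferInstanceAs (IsIso (𝟙 _))
  haveI : Mono φ₁.τ₃ := inferInstanceAs (Mono (T.map (M.iCycles (i - 1))))
  exact (ShortComplex.exact_iff_of_epi_of_isIso_of_mono φ₁).1 hA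

end Generic

/-- The cycles of an acyclic K-flat complex with flat terms are flat. -/
theorem isFlat_cycles {K : CochainComplex (ModSite.Mod O) ℤ} (hK : ModSite.IsKFlat K)
    (hac : K.Acyclic) (hfl : ∀ i, ModSite.IsFlat (K.X i)) (n : ℤ) :
    ModSite.IsFlat (K.cycles n) := by
  obtain ⟨k, rfl⟩ : ∃ k, n = k + 1 := ⟨n - 1, by omega⟩
  have key : ∀ G : ModSite.Mod O,
      Mono (((ModSite.tensorBi O).obj G).map (K.iCycles (k + 1))) := fun G =>
    mono_map_iCycles ((ModSite.tensorBi O).obj G) K k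
      (acyclic_obj_of_acyclic_single G (Thms.acyclic_tensor_of_acyclic_isKFlat hac hK
        ((single _ (.up ℤ) 0).obj G)) k) (hac (k + 1))
  rw [ModTensor.FlatMono.isFlat_iff_mono]
  intro G G' f hf
  have hfl' := (ModTensor.FlatMono.isFlat_iff_mono _).1 (hfl (k + 1)) f hf
  haveI := key G
  haveI : Mono (((ModSite.tensorBi O).map f).app (K.X (k + 1))) := hfl'
  haveI : Mono (((ModSite.tensorBi O).map f).app (K.cycles (k + 1)) ≫
      ((ModSite.tensorBi O).obj G').map (K.iCycles (k + 1))) := by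
    rw [← NatTrans.naturality]
    infer_instance
  exact mono_of_mono (((ModSite.tensorBi O).map f).app (K.cycles (k + 1)))
    (((ModSite.tensorBi O).obj G').map (K.iCycles (k + 1)))

theorem shortExact_cycles {M : ChainComplex (ModSite.Mod O) ℤ} (hac : M.Acyclic) (i j : ℤ)
    (hij : j + 1 = i) : ∃ w, (ShortComplex.mk (M.iCycles i) (M.toCycles i j) w).ShortExact := by
  refine ⟨by rw [← cancel_mono (M.iCycles j)]; simp, ?_⟩
  haveI := epi_toCycles M i j (by simp; omega) (hac j)
  refine { exact := ?_ }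
  refine ShortComplex.exact_of_f_is_kernel _ ?_
  refine KernelFork.IsLimit.ofι' _ _ fun k hk =>
    ⟨M.liftCycles k j (by simp; omega) ?_, M.liftCycles_i _ _ _ _⟩
  rw [← M.toCycles_i i j, ← Category.assoc, hk, zero_comp]

/-- In a bounded below acyclic chain complex of flats, the cycles are flat. -/
theorem isFlat_cycles_chain {M : ChainComplex (ModSite.Mod O) ℤ} (hac : M.Acyclic)
    {i₀ : ℤ} (hb : ∀ i, i < i₀ → IsZero (M.X i)) (hM : ∀ i, ModSite.IsFlat (M.X i)) :
    ∀ i : ℤ, ModSite.IsFlat (M.cycles i) := by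
  have base : ∀ i, i < i₀ → ModSite.IsFlat (M.cycles i) := fun i hi => by
    haveI : IsIso (M.iCycles i) :=
      ⟨0, (IsZero.of_mono (M.iCycles i) (hb i hi)).eq_of_src _ _, (hb i hi).eq_of_src _ _⟩
    exact ModTensor.Flat.isFlat_of_iso O (asIso (M.iCycles i)).symm (hM i)
  suffices ∀ k : ℕ, ModSite.IsFlat (M.cycles (i₀ - 1 + k)) by
    intro i
    by_cases hi : i < i₀
    · exact base i hi
    · obtain ⟨k, rfl⟩ : ∃ k : ℕ, i = i₀ - 1 + k := ⟨(i - (i₀ - 1)).toNat, by omega⟩
      exact this k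
  intro k
  induction k with
  | zero => exact base _ (by omega)
  | succ k ih =>
    obtain ⟨w, hS⟩ := shortExact_cycles hac (i₀ - 1 + ((k + 1 : ℕ) : ℤ)) (i₀ - 1 + (k : ℤ))
      (by omega)
    exact Exact.isFlat_left hS (hM _) ih

/-- Tensoring preserves acyclicity of bounded below chain complexes of flat modules. -/
theorem acyclic_chain_tensor {M : ChainComplex (ModSite.Mod O) ℤ} (F : ModSite.Mod O)
    [((ModSite.tensorBi O).flip.obj F).PreservesZeroMorphisms] (hac : M.Acyclic)
    {i₀ : ℤ} (hb : ∀ i, i < i₀ → IsZero (M.X i)) (hM : ∀ i, ModSite.IsFlat (M.X i)) :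
    ((((ModSite.tensorBi O).flip.obj F).mapHomologicalComplex (.down ℤ)).obj M).Acyclic := by
  intro i
  haveI := ModTensor.FlatMono.additive_flip (O := O) F
  obtain ⟨w, hS⟩ := shortExact_cycles hac i (i - 1) (by omega)
  obtain ⟨_, hS'⟩ := shortExact_cycles hac (i + 1) i rfl
  obtain ⟨_, hS''⟩ := shortExact_cycles hac (i - 1) (i - 1 - 1) (by omega)
  haveI : Epi (((ModSite.tensorBi O).flip.obj F).map (M.toCycles (i + 1) i)) :=
    haveI : Epi (M.toCycles (i + 1) i) := hS'.epi_g
    inferInstance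
  haveI : Mono (((ModSite.tensorBi O).flip.obj F).map (M.iCycles (i - 1))) :=
    Exact.mono_map_of_flat₃ hS'' (isFlat_cycles_chain hac hb hM (i - 1 - 1)) F
  exact exactAt_map_chain ((ModSite.tensorBi O).flip.obj F) M i w
    (Exact.shortExact_map_of_flat₃ hS (isFlat_cycles_chain hac hb hM (i - 1)) F).exact

end Groth.Agent.Lib.SiteKFlat.Cycles
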