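import Groth.Agent.Lib.SiteKFlat.RelRes
import Mathlib.Algebra.Homology.GrothendieckAbelian
import Mathlib.CategoryTheory.Functor.OfSequence

/-!
# Relative free resolutions of bounded above cochain complexes, and systems of them
-/

set_option linter.style.haveILetI false

universe v u

open CategoryTheory Limits HomologicalComplex

namespace Groth.Agent.Lib.SiteKFlat.RelResInt

variable {A : Type u} [Category.{v} A] [Abelian A]

section

variable {ι ι' : Type*} {c : ComplexShape ι} {c' : ComplexShape ι'} (e : c.Embedding c')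
  [e.IsRelIff] (K : HomologicalComplex A c') [K.IsStrictlySupported e]

lemma hasLift_id : e.HasLift (𝟙 (K.restriction e)) := by
  intro j hj i' hij
  refine (K.isZero_X_of_isStrictlySupported e i' fun i hi => ?_).eq_of_src _ _
  exact hj.notMem hij i hi

/-- A strictly supported complex is the extension of its restriction. -/
noncomputable def supportIso : K ≅ (K.restriction e).extend e :=
  haveI : ∀ i', IsIso ((e.liftExtend (𝟙 (K.restriction e)) (hasLift_id e K)).f i') := fun i' => by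
    by_cases h : ∃ i, e.f i = i'
    · obtain ⟨i, hi⟩ := h
      rw [e.isIso_liftExtend_f_iff _ _ hi]
      exact inferInstanceAs (IsIso (𝟙 _))
    · exact ⟨0, (K.isZero_X_of_isStrictlySupported e i' fun i hi => h ⟨i, hi⟩).eq_of_src _ _,
        (isZero_extend_X _ e i' fun i hi => h ⟨i, hi⟩).eq_of_src _ _⟩
  haveI := Hom.isIso_of_components (e.liftExtend (𝟙 (K.restriction e)) (hasLift_id e K))
  asIso (e.liftExtend (𝟙 (K.restriction e)) (hasLift_id e K))

lemma supportIso_hom_f {i : ι} {i' : ι'} (h : e.f i = i') :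
    (supportIso e K).hom.f i' = (K.restrictionXIso e h).inv ≫ ((K.restriction e).extendXIso e h).inv := by
  change (e.liftExtend (𝟙 (K.restriction e)) (hasLift_id e K)).f i' = _
  rw [e.liftExtend_f _ _ h, id_f, Category.id_comp]

end

variable (Free : A → Prop) (hzero : ∀ Z, IsZero Z → Free Z)
  (hcov : ∀ X : A, ∃ (F : A) (π : F ⟶ X), Free F ∧ Epi π)

include hzero hcov

/-- Relative resolutions of maps of bounded above complexes. -/
theorem exists_rel (b : ℤ) {P G : CochainComplex A ℤ} [P.IsStrictlyLE b] [G.IsStrictlyLE b]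
    (a : P ⟶ G) : ∃ (N : CochainComplex A ℤ) (i : P ⟶ N) (c : N ⟶ G), N.IsStrictlyLE b ∧
      i ≫ c = a ∧ QuasiIso c ∧ (∀ j, Epi (c.f j)) ∧
      ∀ j, ∃ F, Free F ∧ ∃ e : N.X j ≅ P.X j ⊞ F, i.f j ≫ e.hom = biprod.inl := by
  choose Fo π hFo hπ using hcov
  let e := ComplexShape.embeddingUpIntLE b
  let a' := restrictionMap a e
  let N' := RelRes.N Fo π a'
  let i := (supportIso e P).hom ≫ extendMap (RelRes.incl Fo π a') e
  let c := extendMap (RelRes.c Fo π a') e ≫ (supportIso e G).inv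
  haveI : QuasiIso (extendMap (RelRes.c Fo π a') e) := by
    rw [quasiIso_extendMap_iff]
    exact RelRes.quasiIso_c Fo π a'
  refine ⟨N'.extend e, i, c, ⟨fun j hj => isZero_extend_X _ _ _ hj⟩, ?_, inferInstance, fun j => ?_,
    fun j => ?_⟩
  · rw [Category.assoc, ← extendMap_comp_assoc, RelRes.incl_c, ← Category.assoc,
      Iso.comp_inv_eq]
    ext j
    by_cases hj : ∃ k, e.f k = j
    · obtain ⟨k, hk⟩ := hj
      simp only [comp_f, supportIso_hom_f _ _ hk, extendMap_f _ _ hk]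
      simp [a']
      subst hk
      simp [restrictionXIso]
      exact (Category.id_comp _).trans (Category.comp_id _).symm
    · exact (P.isZero_X_of_isStrictlySupported e j fun k hk => hj ⟨k, hk⟩).eq_of_src _ _
  · by_cases hj : ∃ k, e.f k = j
    · obtain ⟨k, hk⟩ := hj
      haveI := RelRes.epi_c Fo π a' k
      change Epi ((extendMap (RelRes.c Fo π a') e).f j ≫ _)
      rw [extendMap_f _ _ hk]
      infer_instance
    · exact ⟨fun _ _ _ => (G.isZero_X_of_isStrictlySupported e j fun k hk => hj ⟨k, hk⟩).eq_of_src _ _⟩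
  · by_cases hj : ∃ k, e.f k = j
    · obtain ⟨k, hk⟩ := hj
      have hfree : Free (RelRes.freePart Fo π a' k) := by
        cases k with
        | zero => exact hFo _
        | succ k => exact hFo _
      refine ⟨_, hfree,
        extendXIso _ _ hk ≪≫ biprod.mapIso (P.restrictionXIso e hk) (Iso.refl _), ?_⟩
      simp only [i, comp_f, supportIso_hom_f _ _ hk, extendMap_f _ _ hk, Iso.trans_hom,
        Category.assoc, Iso.inv_hom_id_assoc, biprod.mapIso_hom]
      refine (congrArg (fun z => (P.restrictionXIso e hk).inv ≫ (RelRes.incl Fo π a').f k ≫ z)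
        (Iso.inv_hom_id_assoc (extendXIso N' e hk) _)).trans ?_
      change (P.restrictionXIso e hk).inv ≫ biprod.inl ≫ biprod.map _ _ = biprod.inl
      rw [biprod.inl_map, Iso.inv_hom_id_assoc]
    · have hP := P.isZero_X_of_isStrictlySupported e j fun k hk => hj ⟨k, hk⟩
      have hN : IsZero ((N'.extend e).X j) := isZero_extend_X _ _ _ fun k hk => hj ⟨k, hk⟩
      have hb : IsZero (P.X j ⊞ P.X j) := by
        rw [IsZero.iff_id_eq_zero]
        exact biprod.hom_ext _ _ (hP.eq_of_tgt _ _) (hP.eq_of_tgt _ _)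
      exact ⟨P.X j, hzero _ hP, hN.iso hb, hb.eq_of_tgt _ _⟩

/-- A system of free resolutions of the truncations. -/
theorem exists_system (G : CochainComplex A ℤ) :
    ∃ (Kc : ℕ ⥤ CochainComplex A ℤ) (π : ∀ n : ℕ, Kc.obj n ⟶ G.truncLE ((n : ℤ) + 1)),
      (∀ n : ℕ, Kc.map (homOfLE (Nat.le_succ n)) ≫ π (n + 1) ≫ G.ιTruncLE (((n + 1 : ℕ) : ℤ) + 1) =
        π n ≫ G.ιTruncLE ((n : ℤ) + 1)) ∧
      (∀ n : ℕ, QuasiIso (π n) ∧ ∀ j : ℤ, Epi ((π n).f j)) ∧
      (∀ n : ℕ, (Kc.obj n).IsStrictlyLE ((n : ℤ) + 1)) ∧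
      (∀ j, ∃ F, Free F ∧ Nonempty ((Kc.obj 0).X j ≅ F)) ∧
      (∀ (n : ℕ) j, ∃ F, Free F ∧ ∃ e : (Kc.obj (n + 1)).X j ≅ (Kc.obj n).X j ⊞ F,
        (Kc.map (homOfLE (Nat.le_succ n))).f j ≫ e.hom = biprod.inl) := by
  let St := fun n : ℕ => Σ' (N : CochainComplex A ℤ) (p : N ⟶ G.truncLE ((n : ℤ) + 1)),
    N.IsStrictlyLE ((n : ℤ) + 1) ∧ QuasiIso p ∧ ∀ j, Epi (p.f j)
  let Z : CochainComplex A ℤ := ⊥_ _
  have hZ : IsZero Z := IsZero.of_iso (isZero_zero _) (initialIsInitial.uniqueUpToIso HasZeroObject.zeroIsInitial)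
  haveI : Z.IsStrictlyLE (((0 : ℕ) : ℤ) + 1) := by
    rw [CochainComplex.isStrictlyLE_iff]
    exact fun i _ => (HomologicalComplex.eval _ _ i).map_isZero hZ
  obtain ⟨N₀, i₀, c₀, h₀, -, hq₀, he₀, hf₀⟩ :=
    exists_rel Free hzero hcov (((0 : ℕ) : ℤ) + 1) (0 : Z ⟶ G.truncLE (((0 : ℕ) : ℤ) + 1))
  have step : ∀ (n : ℕ) (s : St n), ∃ (t : St (n + 1)) (i : s.1 ⟶ t.1),
      i ≫ t.2.1 ≫ G.ιTruncLE (((n + 1 : ℕ) : ℤ) + 1) = s.2.1 ≫ G.ιTruncLE ((n : ℤ) + 1) ∧
      ∀ j, ∃ F, Free F ∧ ∃ e : t.1.X j ≅ s.1.X j ⊞ F, i.f j ≫ e.hom = biprod.inl := by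
    rintro n ⟨N, p, hN, hp, he⟩
    haveI := hN
    haveI : N.IsStrictlyLE (((n + 1 : ℕ) : ℤ) + 1) :=
      N.isStrictlyLE_of_le ((n : ℤ) + 1) _ (by omega)
    obtain ⟨N', i, c, h₁, h₂, h₃, h₄, h₅⟩ := exists_rel Free hzero hcov (((n + 1 : ℕ) : ℤ) + 1)
      (inv (N.ιTruncLE (((n + 1 : ℕ) : ℤ) + 1)) ≫
        CochainComplex.truncLEMap (p ≫ G.ιTruncLE ((n : ℤ) + 1)) (((n + 1 : ℕ) : ℤ) + 1))
    refine ⟨⟨N', c, h₁, h₃, h₄⟩, i, ?_, h₅⟩
    dsimp only
    rw [← Category.assoc, h₂, Category.assoc, CochainComplex.ιTruncLE_naturality,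
      IsIso.inv_hom_id_assoc]
  choose t i hi hF using step
  let s : ∀ n, St n := fun n => Nat.rec (motive := St) ⟨N₀, c₀, h₀, hq₀, he₀⟩ t n
  let Kc : ℕ ⥤ CochainComplex A ℤ :=
    Functor.ofSequence (X := fun n => (s n).1) fun n => i n (s n)
  have hm : ∀ n, Kc.map (homOfLE (Nat.le_succ n)) = i n (s n) :=
    fun n => Functor.ofSequence_map_homOfLE_succ _ n
  refine ⟨Kc, fun n => (s n).2.1, fun n => ?_, fun n => ⟨(s n).2.2.2.1, (s n).2.2.2.2⟩,
    fun n => (s n).2.2.1, fun j => ?_, fun n j => ?_⟩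
  · rw [hm]
    exact hi n (s n)
  · obtain ⟨F, hF₀, e, -⟩ := hf₀ j
    haveI hzj : IsZero (Z.X j) := (HomologicalComplex.eval _ _ j).map_isZero hZ
    refine ⟨F, hF₀, ⟨e ≪≫ { hom := biprod.snd, inv := biprod.inr, hom_inv_id := ?_ }⟩⟩
    exact biprod.hom_ext _ _ (hzj.eq_of_tgt _ _) (by simp)
  · rw [hm]
    exact hF n (s n) j

end Groth.Agent.Lib.SiteKFlat.RelResInt
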