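import Groth.Agent.Lib.SiteKFlat.Thms
import Groth.Agent.Lib.SiteKFlat.RelResInt

/-!
# Systems of resolutions by sums of the free modules `j_! O_U`
-/

set_option linter.style.haveILetI false

universe u

open CategoryTheory Limits HomologicalComplex

namespace Groth.Agent.Lib.SiteKFlat.FreeSystem

section Generic

open DerivedOX.TrivCof

variable {A : Type*} [Category A] [Abelian A]

lemma epi_ιTruncLE_f (G : CochainComplex A ℤ) (n i : ℤ) (h : i < n) :
    Epi ((G.ιTruncLE n).f i) := by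
  let g := (fromDiskEquiv (G.X i) i G).symm (𝟙 _)
  haveI : (disk (G.X i) i).IsStrictlyLE n := by
    rw [CochainComplex.isStrictlyLE_iff]
    exact fun k hk => disk_isZero _ _ _ (by omega) (by omega)
  have hg : (inv ((disk (G.X i) i).ιTruncLE n) ≫ CochainComplex.truncLEMap g n) ≫ G.ιTruncLE n = g := by
    rw [Category.assoc, CochainComplex.ιTruncLE_naturality, IsIso.inv_hom_id_assoc]
  have e : (diskIso₀ (G.X i) i).inv ≫ g.f i = 𝟙 _ :=
    (fromDiskEquiv_apply _ _ _ g).symm.trans (Equiv.apply_symm_apply _ _)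
  rw [← hg, comp_f, ← Category.assoc] at e
  exact epi_of_epi_fac e

lemma acyclic_kernel {K L : CochainComplex A ℤ} (f : K ⟶ L) [Epi f] [QuasiIso f] :
    (kernel f).Acyclic := fun i => by
  have hS : (ShortComplex.mk _ _ (kernel.condition f)).ShortExact :=
    { exact := ShortComplex.exact_kernel _ }
  obtain ⟨m, rfl⟩ : ∃ m, i = m + 1 := ⟨i - 1, by omega⟩
  haveI : IsIso (homologyMap f m) := inferInstance
  haveI : IsIso (homologyMap f (m + 1)) := inferInstance
  rw [exactAt_iff_isZero_homology]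
  refine (hS.homology_exact₁ m (m + 1) rfl).isZero_X₂ ?_ ?_
  · rw [← cancel_epi (homologyMap f m), comp_zero]
    exact hS.comp_δ m (m + 1) rfl
  · rw [← cancel_mono (homologyMap f (m + 1)), ← homologyMap_comp, kernel.condition,
      homologyMap_zero, zero_comp]

lemma quasiIso_of_acyclic_kernel {K L : CochainComplex A ℤ} (f : K ⟶ L) [Epi f]
    (hk : (kernel f).Acyclic) : QuasiIso f := by
  have hS : (ShortComplex.mk _ _ (kernel.condition f)).ShortExact :=
    { exact := ShortComplex.exact_kernel _ }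
  refine ⟨fun i => ?_⟩
  rw [quasiIsoAt_iff_isIso_homologyMap]
  haveI : Mono (homologyMap f i) :=
    (hS.homology_exact₂ i).mono_g ((hk i).isZero_homology.eq_of_src _ _)
  haveI : Epi (homologyMap f i) :=
    (hS.homology_exact₃ i (i + 1) rfl).epi_f ((hk (i + 1)).isZero_homology.eq_of_tgt _ _)
  exact isIso_of_mono_of_epi _

end Generic

variable {C : Type u} [SmallCategory C] {J : GrothendieckTopology C} {O : Sheaf J CommRingCat.{u}}

variable (O) in
/-- Sums of modules `j_! O_U`. -/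
def IsFreeSum (X : ModSite.Mod O) : Prop :=
  ∃ (ι : Type u) (U : ι → C), Nonempty (X ≅ ∐ fun j => ModSite.freeOn O (U j))

lemma isFreeSum_of_isZero {X : ModSite.Mod O} (h : IsZero X) : IsFreeSum O X := by
  refine ⟨PEmpty.{u + 1}, PEmpty.elim, ⟨h.iso ?_⟩⟩
  rw [IsZero.iff_id_eq_zero]
  exact Sigma.hom_ext _ _ fun b => b.elim

lemma exists_cover (X : ModSite.Mod O) :
    ∃ (F : ModSite.Mod O) (π : F ⟶ X), IsFreeSum O F ∧ Epi π := by
  let T := Σ U : C, ModSite.freeOn O U ⟶ X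
  refine ⟨∐ fun t : T => ModSite.freeOn O t.1, Sigma.desc fun t : T => t.2,
    ⟨T, fun t => t.1, ⟨Iso.refl _⟩⟩, ?_⟩
  refine DerivedOX.LeftRes.epi_of_forall_lift (Basic.isSeparating_gen O) _ fun U g => ?_
  exact ⟨Sigma.ι (fun t : T => ModSite.freeOn O t.1) ⟨U, g⟩, by simp⟩

lemma isFreeSum_biprod {X Y Z : ModSite.Mod O} (hX : IsFreeSum O X) (hY : IsFreeSum O Y)
    (e : Z ≅ X ⊞ Y) : IsFreeSum O Z := by
  obtain ⟨ι, U, ⟨a⟩⟩ := hX
  obtain ⟨κ, V, ⟨b⟩⟩ := hY
  refine ⟨ι ⊕ κ, Sum.elim U V, ⟨e ≪≫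
    { hom := biprod.desc
        (a.hom ≫ Sigma.desc fun j => Sigma.ι (fun j => ModSite.freeOn O (Sum.elim U V j)) (Sum.inl j))
        (b.hom ≫ Sigma.desc fun j => Sigma.ι (fun j => ModSite.freeOn O (Sum.elim U V j)) (Sum.inr j))
      inv := Sigma.desc fun s => match s with
        | Sum.inl j => Sigma.ι (fun j => ModSite.freeOn O (U j)) j ≫ a.inv ≫ biprod.inl
        | Sum.inr j => Sigma.ι (fun j => ModSite.freeOn O (V j)) j ≫ b.inv ≫ biprod.inr
      hom_inv_id := ?_
      inv_hom_id := ?_ }⟩⟩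
  · apply biprod.hom_ext'
    · rw [biprod.inl_desc_assoc, Category.comp_id, Category.assoc, ← Iso.eq_inv_comp]
      exact Sigma.hom_ext _ _ fun j => by simp; exact Sigma.ι_desc _ _
    · rw [biprod.inr_desc_assoc, Category.comp_id, Category.assoc, ← Iso.eq_inv_comp]
      exact Sigma.hom_ext _ _ fun j => by simp; exact Sigma.ι_desc _ _
  · exact Sigma.hom_ext _ _ fun s => by
      rcases s with j | j <;> refine (Sigma.ι_desc_assoc _ _ _).trans ?_ <;> simp

/-- The colimit of resolutions of the truncations resolves the complex. -/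
theorem exists_colimit_quasiIso {G : CochainComplex (ModSite.Mod O) ℤ}
    {Kc : ℕ ⥤ CochainComplex (ModSite.Mod O) ℤ} (π : ∀ n : ℕ, Kc.obj n ⟶ G.truncLE ((n : ℤ) + 1))
    (hπ : ∀ n : ℕ, Kc.map (homOfLE (Nat.le_succ n)) ≫ π (n + 1) ≫
      G.ιTruncLE (((n + 1 : ℕ) : ℤ) + 1) = π n ≫ G.ιTruncLE ((n : ℤ) + 1))
    (hq : ∀ n, QuasiIso (π n)) (he : ∀ n j, Epi ((π n).f j)) :
    ∃ c : colimit Kc ⟶ G, (∀ n, colimit.ι Kc n ≫ c = π n ≫ G.ιTruncLE ((n : ℤ) + 1)) ∧
      QuasiIso c := by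
  let α : Kc ⟶ (Functor.const ℕ).obj G :=
    NatTrans.ofSequence (fun n => π n ≫ G.ιTruncLE ((n : ℤ) + 1))
      fun n => (hπ n).trans (Category.comp_id _).symm
  let c : colimit Kc ⟶ G := colimit.desc Kc ⟨G, α⟩
  have hc : ∀ n, colimit.ι Kc n ≫ c = π n ≫ G.ιTruncLE ((n : ℤ) + 1) := fun n =>
    colimit.ι_desc _ n
  refine ⟨c, hc, ?_⟩
  haveI : HasExactColimitsOfShape ℕ (CochainComplex (ModSite.Mod O) ℤ) := by
    haveI := AB5OfSize_of_univLE.{0, 0, u, u} (ModSite.Mod O)
    exact AB5OfSize.ofShape ℕ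
  haveI : (colim : (ℕ ⥤ CochainComplex (ModSite.Mod O) ℤ) ⥤ _).PreservesZeroMorphisms :=
    ⟨fun X Y => colimit.hom_ext fun n => by simp⟩
  -- the augmentation is epi
  haveI : ∀ i, Epi (c.f i) := fun i => by
    let n := i.toNat
    haveI := he n i
    haveI := epi_ιTruncLE_f G ((n : ℤ) + 1) i (by omega)
    haveI : Epi ((π n ≫ G.ιTruncLE ((n : ℤ) + 1)).f i) :=
      inferInstanceAs (Epi ((π n).f i ≫ (G.ιTruncLE ((n : ℤ) + 1)).f i))
    exact epi_of_epi_fac (f := (colimit.ι Kc n).f i)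
      (show (colimit.ι Kc n).f i ≫ c.f i = (π n ≫ G.ιTruncLE ((n : ℤ) + 1)).f i by
        rw [← comp_f, hc])
  haveI : Epi c := epi_of_epi_f _ inferInstance
  -- the kernel is acyclic
  have hk : ∀ n, ((kernel α).obj n).Acyclic := by
    intro n
    haveI := he n
    haveI := hq n
    haveI : Epi (π n) := epi_of_epi_f _ inferInstance
    have h₁ : (kernel (π n)).Acyclic := acyclic_kernel (π n)
    haveI : Mono (G.ιTruncLE ((n : ℤ) + 1)) :=
      inferInstanceAs (Mono (HomologicalComplex.ιTruncLE G (ComplexShape.embeddingUpIntLE ((n : ℤ) + 1))))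
    let e : kernel (π n) ≅ kernel (α.app n) :=
      (kernelCompMono (π n) (G.ιTruncLE ((n : ℤ) + 1))).symm
    exact Thms.acyclic_of_quasiIso' (e ≪≫
      (PreservesKernel.iso ((evaluation _ _).obj n) α).symm).hom h₁
  let cc : Cocone Kc := ⟨G, α⟩
  let e : colimit ((Functor.const ℕ).obj G) ≅ G :=
    (colimit.isColimit _).coconePointUniqueUpToIso (isColimitConstCocone ℕ G)
  have hce : colim.map α ≫ e.hom = c := colimit.hom_ext fun n => by
    rw [colim_map, ι_colimMap_assoc]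
    refine (congrArg (_ ≫ ·) (IsColimit.comp_coconePointUniqueUpToIso_hom _ _ n)).trans ?_
    exact (Category.comp_id _).trans (colimit.ι_desc cc n).symm
  have hkc : (kernel c).Acyclic := by
    let e' : kernel c ≅ colimit (kernel α) :=
      kernelIsoOfEq hce.symm ≪≫ kernelCompMono (colim.map α) e.hom ≪≫
        (PreservesKernel.iso colim α).symm
    exact Thms.acyclic_of_quasiIso' e'.inv
      (Trunc.acyclic_of_isColimit (colimit.isColimit (kernel α)) hk)
  exact quasiIso_of_acyclic_kernel c hkc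

end Groth.Agent.Lib.SiteKFlat.FreeSystem
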