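import Groth.Agent.Lib.RMorLocal.Flat
import Groth.Agent.Lib.SiteKFlat.FreeSystem
import Groth.Agent.Lib.SiteKFlat.Cycles
import Groth.Agent.Lib.ExtZero.ModSite

/-!
# Inverse images of K-flat complexes of flat modules
-/

set_option linter.style.haveILetI false

universe u


open CategoryTheory Limits HomologicalComplex

namespace Groth.Agent.Lib.SiteKFlat.PullKFlat

section Generic

variable {A : Type*} [Category A]

/-- A cocone on a sequence which is eventually made of isomorphisms is a colimit. -/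
noncomputable def isColimitOfEventuallyIso {F : ℕ ⥤ A} (c : Cocone F) (k₀ : ℕ)
    (h : ∀ k, k₀ ≤ k → IsIso (c.ι.app k)) : IsColimit c :=
  haveI := h k₀ le_rfl
  { desc := fun s => inv (c.ι.app k₀) ≫ s.ι.app k₀
    fac := fun s k => by
      haveI := h (max k k₀) (le_max_right _ _)
      have e₀ : inv (c.ι.app k₀) ≫ s.ι.app k₀ = inv (c.ι.app (max k k₀)) ≫ s.ι.app (max k k₀) := by
        rw [IsIso.inv_comp_eq, ← c.w (homOfLE (le_max_right k k₀)), Category.assoc,
          IsIso.hom_inv_id_assoc, s.w]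
      rw [e₀, ← c.w (homOfLE (le_max_left k k₀)), Category.assoc, IsIso.hom_inv_id_assoc, s.w]
    uniq := fun s m hm => by rw [← hm k₀, IsIso.inv_hom_id_assoc] }

variable [Abelian A] (E : CochainComplex A ℤ) (n₀ : ℤ)

/-- The transition maps of the canonical truncations. -/
noncomputable def ttrans (k : ℕ) : E.truncLE (n₀ + k) ⟶ E.truncLE (n₀ + ((k + 1 : ℕ) : ℤ)) :=
  haveI : (E.truncLE (n₀ + k)).IsStrictlyLE (n₀ + ((k + 1 : ℕ) : ℤ)) :=
    (E.truncLE (n₀ + k)).isStrictlyLE_of_le (n₀ + k) _ (by omega)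
  inv ((E.truncLE (n₀ + k)).ιTruncLE (n₀ + ((k + 1 : ℕ) : ℤ))) ≫
    CochainComplex.truncLEMap (E.ιTruncLE (n₀ + k)) (n₀ + ((k + 1 : ℕ) : ℤ))

lemma ttrans_ι (k : ℕ) :
    ttrans E n₀ k ≫ E.ιTruncLE (n₀ + ((k + 1 : ℕ) : ℤ)) = E.ιTruncLE (n₀ + k) := by
  haveI : (E.truncLE (n₀ + k)).IsStrictlyLE (n₀ + ((k + 1 : ℕ) : ℤ)) :=
    (E.truncLE (n₀ + k)).isStrictlyLE_of_le (n₀ + k) _ (by omega)
  rw [ttrans, Category.assoc, CochainComplex.ιTruncLE_naturality, IsIso.inv_hom_id_assoc]

/-- The canonical truncations as a sequence. -/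
noncomputable def tseq : ℕ ⥤ CochainComplex A ℤ :=
  Functor.ofSequence (X := fun k : ℕ => E.truncLE (n₀ + k)) (ttrans E n₀)

/-- The canonical truncations exhaust. -/
noncomputable def tseqCocone : Cocone (tseq E n₀) :=
  Cocone.mk E (NatTrans.ofSequence (fun k => E.ιTruncLE (n₀ + k)) fun k => by
    change (tseq E n₀).map (homOfLE (Nat.le_succ k)) ≫ E.ιTruncLE (n₀ + ((k + 1 : ℕ) : ℤ)) =
      E.ιTruncLE (n₀ + (k : ℤ)) ≫ 𝟙 E
    rw [Category.comp_id]
    exact (congrArg (· ≫ E.ιTruncLE (n₀ + ((k + 1 : ℕ) : ℤ)))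
      (Functor.ofSequence_map_homOfLE_succ _ k)).trans (ttrans_ι E n₀ k))

/-- The truncations exhaust the complex. -/
noncomputable def isColimitTseqCocone : IsColimit (tseqCocone E n₀) :=
  isColimitOfEval _ _ fun i =>
    isColimitOfEventuallyIso _ (i - n₀ + 1).toNat fun k hk => by
      change IsIso ((E.ιTruncLE (n₀ + k)).f i)
      haveI := FreeSystem.epi_ιTruncLE_f E (n₀ + k) i (by omega)
      haveI : Mono (E.ιTruncLE (n₀ + k)) :=
        inferInstanceAs (Mono (HomologicalComplex.ιTruncLE E (ComplexShape.embeddingUpIntLE _)))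
      haveI : Mono ((E.ιTruncLE (n₀ + k)).f i) :=
        inferInstanceAs (Mono ((HomologicalComplex.eval A (.up ℤ) i).map (E.ιTruncLE (n₀ + k))))
      exact isIso_of_mono_of_epi _

end Generic

variable {C : Type u} [SmallCategory C] {J : GrothendieckTopology C} {O : Sheaf J CommRingCat.{u}}

theorem isFlat_of_isZero {M : ModSite.Mod O} (h : IsZero M) : ModSite.IsFlat M := by
  rw [ModTensor.FlatMono.isFlat_iff_mono]
  intro X Y f _
  exact ⟨fun a b _ => ((((ModSite.tensorBi O).obj X).map_isZero h)).eq_of_tgt a b⟩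

theorem isFlat_biprod {M N : ModSite.Mod O} (hM : ModSite.IsFlat M) (hN : ModSite.IsFlat N) :
    ModSite.IsFlat (M ⊞ N) :=
  Exact.isFlat_middle (ShortComplex.Splitting.ofHasBinaryBiproduct M N).shortExact hM hN

theorem isFlat_mappingCone {F G : CochainComplex (ModSite.Mod O) ℤ} (φ : F ⟶ G)
    (hF : ∀ n, ModSite.IsFlat (F.X n)) (hG : ∀ n, ModSite.IsFlat (G.X n)) (n : ℤ) :
    ModSite.IsFlat ((CochainComplex.mappingCone φ).X n) :=
  ModTensor.Flat.isFlat_of_iso O
    (HomologicalComplex.homotopyCofiber.XIsoBiprod φ n (n + 1) rfl).symm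
    (isFlat_biprod (hF _) (hG _))

theorem isFlat_truncLE {E : CochainComplex (ModSite.Mod O) ℤ}
    (hX : ∀ i, ModSite.IsFlat (E.X i)) (hZ : ∀ i, ModSite.IsFlat (E.cycles i)) (n i : ℤ) :
    ModSite.IsFlat ((E.truncLE n).X i) := by
  rcases lt_trichotomy i n with h | rfl | h
  · exact ModTensor.Flat.isFlat_of_iso O (E.truncLEXIso n i h).symm (hX i)
  · exact ModTensor.Flat.isFlat_of_iso O (E.truncLEXIsoCycles i).symm (hZ i)
  · exact isFlat_of_isZero ((E.truncLE n).isZero_of_isStrictlyLE n i h)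

variable {D : Type u} [SmallCategory D] {K : GrothendieckTopology D} {O' : Sheaf K CommRingCat.{u}}
  (T : ModSite.Mod O ⥤ ModSite.Mod O') [T.Additive] [PreservesColimitsOfSize.{u, u} T]
  (hT : ∀ M, ModSite.IsFlat M → ModSite.IsFlat (T.obj M))

local notation "FP" => T.mapHomologicalComplex (ComplexShape.up ℤ)

include hT in
theorem isKFlat_map_of_bounded_above (E : CochainComplex (ModSite.Mod O) ℤ) (b : ℤ)
    [E.IsStrictlyLE b] (hX : ∀ i, ModSite.IsFlat (E.X i)) :
    ModSite.IsKFlat ((T.mapHomologicalComplex (ComplexShape.up ℤ)).obj E) := by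
  haveI : CochainComplex.IsStrictlyLE ((T.mapHomologicalComplex (ComplexShape.up ℤ)).obj E) b := by
    rw [CochainComplex.isStrictlyLE_iff]
    exact fun i hi => T.map_isZero (E.isZero_of_isStrictlyLE b i hi)
  exact Thms.isKFlat_of_bounded_above _ b fun i => hT _ (hX i)

theorem preservesColimit_mapHomologicalComplex :
    PreservesColimitsOfShape ℕ (T.mapHomologicalComplex (ComplexShape.up ℤ)) := by
  haveI : PreservesColimitsOfSize.{0, 0} T := preservesSmallestColimits_of_preservesColimits _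
  infer_instance

include hT in
theorem isKFlat_map_of_acyclic (E : CochainComplex (ModSite.Mod O) ℤ) (hE : ModSite.IsKFlat E)
    (hac : E.Acyclic) (hX : ∀ i, ModSite.IsFlat (E.X i)) :
    ModSite.IsKFlat ((T.mapHomologicalComplex (ComplexShape.up ℤ)).obj E) := by
  haveI := preservesColimit_mapHomologicalComplex T
  have h := Thms.isKFlat_of_isColimit
    (isColimitOfPreserves (T.mapHomologicalComplex (ComplexShape.up ℤ)) (isColimitTseqCocone E 0))
  refine h fun k => ?_
  exact isKFlat_map_of_bounded_above T hT (E.truncLE (0 + (k : ℤ))) (0 + (k : ℤ))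
    (isFlat_truncLE hX (Cycles.isFlat_cycles hE hac hX) _)

theorem isKFlat_of_retract {K L : CochainComplex (ModSite.Mod O) ℤ} (r : Retract K L)
    (hL : ModSite.IsKFlat L) : ModSite.IsKFlat K := by
  rw [Basic.isKFlat_iff] at hL ⊢
  intro F hF i
  have r' := (r.map ((ModSite.tensorCx O).obj F)).map (HomologicalComplex.homologyFunctor _ _ i)
  rw [exactAt_iff_isZero_homology]
  have h₀ := (hL F hF i).isZero_homology
  rw [IsZero.iff_id_eq_zero]
  refine r'.retract.symm.trans ?_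
  exact (congrArg (· ≫ r'.r) (h₀.eq_of_tgt r'.i 0)).trans zero_comp

include hT in
theorem isKFlat_map_of_resolution {P L : CochainComplex (ModSite.Mod O) ℤ} (c : P ⟶ L) [QuasiIso c]
    (hP : ModSite.IsKFlat P) (hPX : ∀ i, ModSite.IsFlat (P.X i))
    (hTP : ModSite.IsKFlat ((T.mapHomologicalComplex (ComplexShape.up ℤ)).obj P))
    (hL : ModSite.IsKFlat L) (hX : ∀ i, ModSite.IsFlat (L.X i)) :
    ModSite.IsKFlat ((T.mapHomologicalComplex (ComplexShape.up ℤ)).obj L) := by
  have hMid : ModSite.IsKFlat (L ⊞ Cx.cyl0 P) := Thms.isKFlat_biprod_cyl0 hL P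
  have hMidX : ∀ i, ModSite.IsFlat ((L ⊞ Cx.cyl0 P).X i) := fun i =>
    ModTensor.Flat.isFlat_of_iso O
      ((HomologicalComplex.eval _ _ i).mapBiprod L (Cx.cyl0 P)).symm
      (isFlat_biprod (hX i) (isFlat_mappingCone (𝟙 P) hPX hPX i))
  have σ := fun n => Cx.graphSplitting c n
  have hEX : ∀ i, ModSite.IsFlat ((Cx.graphSES c).X₃.X i) := fun i =>
    ModTensor.FlatMono.isFlat_of_retract
      { i := (σ i).s, r := ((Cx.graphSES c).g).f i, retract := (σ i).s_g } (hMidX i)
  have hE : ModSite.IsKFlat (Cx.graphSES c).X₃ :=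
    (Thms.two_of_three_split (S := Cx.graphSES c) σ).1 hP hMid
  have hTE := isKFlat_map_of_acyclic T hT _ hE (Cx.acyclic_graph_cokernel c) hEX
  have hTMid := (Thms.two_of_three_split
    (S := (Cx.graphSES c).map (T.mapHomologicalComplex (ComplexShape.up ℤ)))
    fun n => ((σ n).map T)).2.1 hTP hTE
  exact isKFlat_of_retract
    ((Retract.mk (biprod.inl : L ⟶ L ⊞ Cx.cyl0 P) biprod.fst biprod.inl_fst).map
      (T.mapHomologicalComplex (ComplexShape.up ℤ))) hTMid

theorem exists_resolution (L : CochainComplex (ModSite.Mod O) ℤ) :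
    ∃ (Kc : ℕ ⥤ CochainComplex (ModSite.Mod O) ℤ) (c : colimit Kc ⟶ L), QuasiIso c ∧
      (∀ n, ∃ b : ℤ, (Kc.obj n).IsStrictlyLE b) ∧ ∀ n i, ModSite.IsFlat ((Kc.obj n).X i) := by
  obtain ⟨Kc, π, h₁, h₂, h₃, h₄, h₅⟩ := RelResInt.exists_system
    (FreeSystem.IsFreeSum O) (fun _ h => FreeSystem.isFreeSum_of_isZero h)
    (fun X => FreeSystem.exists_cover X) L
  obtain ⟨c, -, hc⟩ := FreeSystem.exists_colimit_quasiIso π h₁ (fun n => (h₂ n).1) (fun n => (h₂ n).2)
  have hfree : ∀ X, FreeSystem.IsFreeSum O X → ModSite.IsFlat X := by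
    rintro X ⟨ι, U, ⟨e⟩⟩
    exact ModTensor.Flat.isFlat_of_iso O e.symm (ModTensor.Flat.isFlat_of_isColimit_discrete O _
      (fun j => ExtZero.ModSite.isFlat_freeOn O (U j)) _ (coproductIsCoproduct _))
  refine ⟨Kc, c, hc, fun n => ⟨_, h₃ n⟩, fun n i => ?_⟩
  induction n with
  | zero =>
    obtain ⟨F, hF, ⟨e⟩⟩ := h₄ i
    exact ModTensor.Flat.isFlat_of_iso O e.symm (hfree _ hF)
  | succ n ih =>
    obtain ⟨F, hF, e, -⟩ := h₅ n i
    exact ModTensor.Flat.isFlat_of_iso O e.symm (isFlat_biprod ih (hfree _ hF))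

theorem isFlat_colimit_X {Kc : ℕ ⥤ CochainComplex (ModSite.Mod O) ℤ}
    (hKX : ∀ n i, ModSite.IsFlat ((Kc.obj n).X i)) (i : ℤ) :
    ModSite.IsFlat ((colimit Kc).X i) := by
  have h := ModTensor.Flat.isFlat_of_isColimit O
    (fun M => haveI := preservesSmallestColimits_of_preservesColimits ((ModSite.tensorBi O).obj M)
      inferInstance)
    (Kc ⋙ HomologicalComplex.eval _ _ i) (fun n => hKX n i) _
    (isColimitOfPreserves (HomologicalComplex.eval _ _ i) (colimit.isColimit Kc))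
  exact h

include hT in
/-- Colimit preserving functors preserving flat modules preserve K-flat complexes of flats. -/
theorem isKFlat_map (L : CochainComplex (ModSite.Mod O) ℤ) (hL : ModSite.IsKFlat L)
    (hX : ∀ i, ModSite.IsFlat (L.X i)) :
    ModSite.IsKFlat ((T.mapHomologicalComplex (ComplexShape.up ℤ)).obj L) := by
  haveI := preservesColimit_mapHomologicalComplex T
  obtain ⟨Kc, c, hc, hb, hKX⟩ := exists_resolution L
  have hP : ModSite.IsKFlat (colimit Kc) :=
    Thms.isKFlat_of_isColimit (colimit.isColimit Kc) fun n => by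
      obtain ⟨b, _⟩ := hb n
      exact Thms.isKFlat_of_bounded_above _ b (hKX n)
  have hTP := Thms.isKFlat_of_isColimit
    (isColimitOfPreserves (T.mapHomologicalComplex (ComplexShape.up ℤ)) (colimit.isColimit Kc))
  haveI := hc
  refine isKFlat_map_of_resolution T hT c hP (isFlat_colimit_X hKX) (hTP fun n => ?_) hL hX
  obtain ⟨b, _⟩ := hb n
  exact isKFlat_map_of_bounded_above T hT (Kc.obj n) b (hKX n)

end Groth.Agent.Lib.SiteKFlat.PullKFlat
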