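import Groth.Prelude.Def_SiteCmp
import Groth.Agent.Lib.SiteKFlat.PullKFlat
import Groth.Agent.Lib.RMorLocal.Mono
import Groth.Agent.Lib.DerCat.DerAdj
import Groth.Agent.Lib.DerivedOX.Exists
import Mathlib.Algebra.Homology.DerivedCategory.Fractions

/-!
# The left adjoint of `Rf_*` for a morphism of ringed sites
-/

set_option linter.style.haveILetI false

universe u

open CategoryTheory Limits HomologicalComplex
attribute [local instance] HasDerivedCategory.standard

namespace Groth.Agent.Lib.SiteKFlat.PullAdj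

variable {C D : Type u} [SmallCategory C] [SmallCategory D] {J : GrothendieckTopology C}
  {K : GrothendieckTopology D} {O_C : Sheaf J CommRingCat.{u}} {O_D : Sheaf K CommRingCat.{u}}
  (f : _root_.ModSite.RMor O_C O_D)

/-- The adapted complexes. -/
structure Good (P : CochainComplex (_root_.ModSite.Mod O_D) ℤ) : Prop where
  kFlat : _root_.ModSite.IsKFlat P
  flat : ∀ i, _root_.ModSite.IsFlat (P.X i)

theorem exists_good (L : CochainComplex (_root_.ModSite.Mod O_D) ℤ) :
    ∃ (P : CochainComplex (_root_.ModSite.Mod O_D) ℤ) (s : P ⟶ L), Good P ∧ QuasiIso s := by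
  obtain ⟨Kc, c, hc, hb, hKX⟩ := PullKFlat.exists_resolution L
  exact ⟨_, c, ⟨Thms.isKFlat_of_isColimit (colimit.isColimit Kc) fun n => by
    obtain ⟨b, _⟩ := hb n
    exact Thms.isKFlat_of_bounded_above _ b (hKX n), PullKFlat.isFlat_colimit_X hKX⟩, hc⟩

local notation "TP" => f.pull.mapHomologicalComplex (ComplexShape.up ℤ)

/-- `f^*` keeps acyclic adapted complexes acyclic. -/
theorem acyclic_pull {E : CochainComplex (_root_.ModSite.Mod O_D) ℤ} (hE : Good E)
    (hac : E.Acyclic) : ((f.pull.mapHomologicalComplex (ComplexShape.up ℤ)).obj E).Acyclic := by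
  have hZ := fun n => Cycles.isFlat_cycles hE.kFlat hac hE.flat n
  have hmono : ∀ n : ℤ, Mono (f.pull.map (E.iCycles n)) ∧
      ∃ w, (ShortComplex.mk (f.pull.map (E.iCycles n)) (f.pull.map (E.toCycles n (n + 1))) w).Exact := by
    intro n
    have w : E.iCycles n ≫ E.toCycles n (n + 1) = 0 := by
      rw [← cancel_mono (E.iCycles (n + 1))]; simp
    let S : ShortComplex (_root_.ModSite.Mod O_D) := ShortComplex.mk _ _ w
    haveI := Cycles.epi_toCycles E n (n + 1) (by simp) (hac (n + 1))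
    have hS : S.ShortExact :=
      { exact := ShortComplex.exact_of_f_is_kernel _ (KernelFork.IsLimit.ofι' _ _ fun k hk =>
          ⟨E.liftCycles k (n + 1) (by simp) (by
            rw [← E.toCycles_i n (n + 1), ← Category.assoc, hk, zero_comp]),
            E.liftCycles_i _ _ _ _⟩)
        epi_g := this }
    haveI : f.pull.IsLeftAdjoint := f.adj.isLeftAdjoint
    haveI : PreservesFiniteColimits f.pull := PreservesColimitsOfSize.preservesFiniteColimits.{0, 0} _
    exact ⟨RMorLocal.Mono.mono_pull_map S hS (hZ (n + 1)), (S.map f.pull).zero,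
      ((Functor.preservesFiniteColimits_iff_forall_exact_map_and_epi f.pull).1 inferInstance S hS).1⟩
  intro n
  rw [exactAt_iff' _ (n - 1) n (n + 1) (by simp) (by simp)]
  obtain ⟨-, w, hex⟩ := hmono n
  have w' : f.pull.map (E.d (n - 1) n) ≫ f.pull.map (E.toCycles n (n + 1)) = 0 := by
    rw [← f.pull.map_comp, show E.d (n - 1) n ≫ E.toCycles n (n + 1) = 0 by
      rw [← cancel_mono (E.iCycles (n + 1))]; simp, Functor.map_zero]
  haveI := Cycles.epi_toCycles E (n - 1) n (by simp) (hac n)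
  haveI : f.pull.IsLeftAdjoint := f.adj.isLeftAdjoint
  let S₁ := ShortComplex.mk (f.pull.map (E.d (n - 1) n)) (f.pull.map (E.toCycles n (n + 1))) w'
  let φ₁ : S₁ ⟶ ShortComplex.mk (f.pull.map (E.iCycles n)) (f.pull.map (E.toCycles n (n + 1))) w :=
    { τ₁ := f.pull.map (E.toCycles (n - 1) n)
      τ₂ := 𝟙 _
      τ₃ := 𝟙 _
      comm₁₂ := ((f.pull.map_comp _ _).symm.trans
        (congrArg f.pull.map (E.toCycles_i (n - 1) n))).trans (Category.comp_id _).symm
      comm₂₃ := (Category.id_comp _).trans (Category.comp_id _).symm }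
  haveI : Epi φ₁.τ₁ := inferInstanceAs (Epi (f.pull.map (E.toCycles (n - 1) n)))
  haveI : IsIso φ₁.τ₂ := inferInstanceAs (IsIso (𝟙 _))
  haveI : Mono φ₁.τ₃ := inferInstanceAs (Mono (𝟙 _))
  have h₁ : S₁.Exact := (ShortComplex.exact_iff_of_epi_of_isIso_of_mono φ₁).2 hex
  let φ₂ : S₁ ⟶ ((f.pull.mapHomologicalComplex (.up ℤ)).obj E).sc' (n - 1) n (n + 1) :=
    { τ₁ := 𝟙 _
      τ₂ := 𝟙 _
      τ₃ := f.pull.map (E.iCycles (n + 1))
      comm₁₂ := (Category.id_comp _).trans (Category.comp_id _).symm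
      comm₂₃ := (Category.id_comp _).trans ((congrArg f.pull.map (E.toCycles_i n (n + 1))).symm.trans
        (f.pull.map_comp _ _)) }
  haveI : Epi φ₂.τ₁ := inferInstanceAs (Epi (𝟙 _))
  haveI : IsIso φ₂.τ₂ := inferInstanceAs (IsIso (𝟙 _))
  haveI : Mono φ₂.τ₃ := (hmono (n + 1)).1
  exact (ShortComplex.exact_iff_of_epi_of_isIso_of_mono φ₂).1 h₁

/-- `f^*` keeps quasi-isomorphisms between adapted complexes. -/
theorem quasiIso_pull {P Q : CochainComplex (_root_.ModSite.Mod O_D) ℤ} (hP : Good P) (hQ : Good Q)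
    (α : P ⟶ Q) [QuasiIso α] :
    QuasiIso ((f.pull.mapHomologicalComplex (ComplexShape.up ℤ)).map α) := by
  haveI : f.pull.IsLeftAdjoint := f.adj.isLeftAdjoint
  haveI := (DerCat.DerAdj.adjC f.adj (ComplexShape.up ℤ)).isLeftAdjoint
  haveI : PreservesFiniteColimits TP := PreservesColimitsOfSize.preservesFiniteColimits.{0, 0} _
  have σ := fun n => Cx.graphSplitting α n
  have hMidX : ∀ i, _root_.ModSite.IsFlat ((Q ⊞ Cx.cyl0 P).X i) := fun i =>
    ModTensor.Flat.isFlat_of_iso O_D
      ((HomologicalComplex.eval _ _ i).mapBiprod Q (Cx.cyl0 P)).symm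
      (PullKFlat.isFlat_biprod (hQ.flat i) (PullKFlat.isFlat_mappingCone (𝟙 P) hP.flat hP.flat i))
  refine Cx.quasiIso_map TP α ?_ ?_ ?_
  · exact DerivedOX.Bifunctor.acyclic_of_homotopy_zero
      ((f.pull.mapHomotopy (CochainComplex.mappingCone.homotopyToZeroOfId P)).trans
        (Homotopy.ofEq (Functor.map_zero _ _ _)) |>
        fun h => (Homotopy.ofEq ((TP).map_id _).symm).trans h)
  · exact HomologicalComplex.mono_of_mono_f _ fun n => ((σ n).map f.pull).shortExact.mono_f
  · exact acyclic_pull f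
      ⟨(Thms.two_of_three_split (S := Cx.graphSES α) σ).1 hP.kFlat
          (Thms.isKFlat_biprod_cyl0 hQ.kFlat P),
        fun i => ModTensor.FlatMono.isFlat_of_retract
          { i := (σ i).s, r := ((Cx.graphSES α).g).f i, retract := (σ i).s_g } (hMidX i)⟩
      (Cx.acyclic_graph_cokernel α)

/-- Maps from adapted complexes into direct images of K-injective complexes. -/
theorem Qh_map_bijective {P : CochainComplex (_root_.ModSite.Mod O_D) ℤ} (hP : Good P)
    (I : CochainComplex (_root_.ModSite.Mod O_C) ℤ) [I.IsKInjective]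
    (Y : HomotopyCategory (_root_.ModSite.Mod O_C) (.up ℤ))
    (eY : (HomotopyCategory.quotient _ (.up ℤ)).obj I ≅ Y) :
    Function.Bijective (fun g : (HomotopyCategory.quotient _ (.up ℤ)).obj P ⟶
        (f.push.mapHomotopyCategory (.up ℤ)).obj Y => DerivedCategory.Qh.map g) := by
  let W := HomotopyCategory.quasiIso (_root_.ModSite.Mod O_D) (ComplexShape.up ℤ)
  haveI : W.IsMultiplicative := by
    simp only [W, HomotopyCategory.quasiIso_eq_trW_subcategoryAcyclic]
    infer_instance
  let adj := DerCat.DerAdj.adjK f.adj (ComplexShape.up ℤ)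
  let qD := HomotopyCategory.quotient (_root_.ModSite.Mod O_D) (ComplexShape.up ℤ)
  -- refinements of quasi-isomorphisms into `P`
  have key : ∀ (X : HomotopyCategory (_root_.ModSite.Mod O_D) (.up ℤ)) (s : X ⟶ qD.obj P), W s →
      ∃ (P' : CochainComplex (_root_.ModSite.Mod O_D) ℤ) (t : qD.obj P' ⟶ X), W t ∧
        Function.Bijective (fun u : qD.obj P ⟶ (f.push.mapHomotopyCategory (.up ℤ)).obj Y =>
          (t ≫ s) ≫ u) := by
    intro X s hs
    obtain ⟨X, rfl⟩ := HomotopyCategory.quotient_obj_surjective X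
    obtain ⟨P', t, hP', ht⟩ := exists_good X
    obtain ⟨s, rfl⟩ := qD.map_surjective s
    haveI : QuasiIso s :=
      (HomologicalComplex.mem_quasiIso_iff _).1 ((HomotopyCategory.quotient_map_mem_quasiIso_iff s).1 hs)
    refine ⟨P', qD.map t, (HomotopyCategory.quotient_map_mem_quasiIso_iff t).2
      ((HomologicalComplex.mem_quasiIso_iff _).2 ht), ?_⟩
    haveI := quasiIso_pull f hP' hP (t ≫ s)
    let q := HomotopyCategory.quotient (_root_.ModSite.Mod O_C) (ComplexShape.up ℤ)
    let a : (f.pull.mapHomotopyCategory (.up ℤ)).obj (qD.obj P') ⟶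
        (f.pull.mapHomotopyCategory (.up ℤ)).obj (qD.obj P) :=
      q.map ((TP).map (t ≫ s))
    haveI : IsIso (DerivedCategory.Qh.map a) :=
      Localization.inverts DerivedCategory.Qh (HomotopyCategory.quasiIso _ (.up ℤ)) _
        ((HomotopyCategory.quotient_map_mem_quasiIso_iff _).2
          ((HomologicalComplex.mem_quasiIso_iff _).2 (quasiIso_pull f hP' hP (t ≫ s))))
    have hb : Function.Bijective (fun v : (f.pull.mapHomotopyCategory (.up ℤ)).obj (qD.obj P) ⟶ Y =>
        a ≫ v) := by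
      have h₁ := fun Z => CochainComplex.IsKInjective.Qh_map_bijective Z I
      refine ⟨fun v v' h => ?_, fun w => ?_⟩
      · refine (cancel_mono eY.inv).1 ((h₁ _).1 ?_)
        rw [← cancel_epi (DerivedCategory.Qh.map a), ← Functor.map_comp, ← Functor.map_comp]
        exact congrArg DerivedCategory.Qh.map (by simp only [← Category.assoc]; exact congrArg (· ≫ eY.inv) h)
      · obtain ⟨v, hv⟩ := (h₁ _).2 (inv (DerivedCategory.Qh.map a) ≫ DerivedCategory.Qh.map (w ≫ eY.inv))
        refine ⟨v ≫ eY.hom, ?_⟩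
        rw [← cancel_mono eY.inv]
        refine (h₁ _).1 ?_
        simp [hv]
    have heq : ∀ u : qD.obj P ⟶ (f.push.mapHomotopyCategory (.up ℤ)).obj Y,
        (adj.homEquiv _ _).symm ((qD.map t ≫ qD.map s) ≫ u) =
        a ≫ (adj.homEquiv _ _).symm u := fun u => by
      rw [Adjunction.homEquiv_naturality_left_symm, ← qD.map_comp]
      rfl
    refine ⟨fun u u' h => (adj.homEquiv _ _).symm.injective (hb.1 ?_), fun w => ?_⟩
    · exact (heq u).symm.trans ((congrArg (adj.homEquiv _ _).symm h).trans (heq u'))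
    · obtain ⟨v, hv⟩ := hb.2 ((adj.homEquiv _ _).symm w)
      refine ⟨adj.homEquiv _ _ v, (adj.homEquiv _ _).symm.injective ?_⟩
      exact (heq _).trans ((congrArg (a ≫ ·) ((adj.homEquiv _ _).symm_apply_apply v)).trans hv)
  refine ⟨fun g g' h => ?_, fun φ => ?_⟩
  · obtain ⟨X, s, hs, hgg⟩ := (MorphismProperty.map_eq_iff_precomp DerivedCategory.Qh W g g').1 h
    obtain ⟨P', t, -, hb⟩ := key X s hs
    exact hb.1 (by simp only [Category.assoc, hgg])
  · obtain ⟨φ', hφ⟩ := Localization.exists_rightFraction DerivedCategory.Qh W φ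
    obtain ⟨P', t, ht, hb⟩ := key _ φ'.s φ'.hs
    obtain ⟨u, hu⟩ := hb.2 (t ≫ φ'.f)
    refine ⟨u, ?_⟩
    haveI := Localization.inverts DerivedCategory.Qh W _ (W.comp_mem _ _ ht φ'.hs)
    rw [hφ, ← cancel_epi (DerivedCategory.Qh.map (t ≫ φ'.s))]
    refine (DerivedCategory.Qh.map_comp _ _).symm.trans
      ((congrArg DerivedCategory.Qh.map hu).trans ((DerivedCategory.Qh.map_comp t φ'.f).trans ?_))
    rw [Functor.map_comp, Category.assoc, MorphismProperty.RightFraction.map_s_comp_map]

/-- `Rf_*` has a left adjoint. -/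
theorem isRightAdjoint_rpushD [SiteCmp.HasRpushD f] : (SiteCmp.RpushD f).IsRightAdjoint := by
  haveI : (DerivedCategory.Qh (C := _root_.ModSite.Mod O_C)).IsLeftAdjoint := inferInstance
  suffices h : (DerivedOX.RightDerived.resFunctor (_root_.ModSite.Mod O_C) ⋙
      SiteCmp.pushKh f).IsRightAdjoint from
    Functor.isRightAdjoint_of_iso (DerivedOX.RightDerived.totalRightDerivedIso (SiteCmp.pushKh f))
  apply Functor.isRightAdjoint_of_leftAdjointObjIsDefined_eq_top
  ext d
  simp only [Pi.top_apply, Prop.top_eq_true, iff_true]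
  obtain ⟨L, ⟨e⟩⟩ : ∃ L : CochainComplex (_root_.ModSite.Mod O_D) ℤ,
      Nonempty (DerivedCategory.Q.obj L ≅ d) := ⟨_, ⟨DerivedCategory.Q.objObjPreimageIso d⟩⟩
  obtain ⟨P, s, hP, hs⟩ := exists_good L
  let eP : DerivedCategory.Qh.obj ((HomotopyCategory.quotient _ (.up ℤ)).obj P) ≅ d :=
    (DerivedCategory.quotientCompQhIso _).app P ≪≫ asIso (DerivedCategory.Q.map s) ≪≫ e
  let R := DerivedOX.RightDerived.resFunctor (_root_.ModSite.Mod O_C)
  have hbij : ∀ M, Function.Bijective (fun g : (HomotopyCategory.quotient _ (.up ℤ)).obj P ⟶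
      (f.push.mapHomotopyCategory (.up ℤ)).obj (R.obj M) => DerivedCategory.Qh.map g) := fun M => by
    obtain ⟨I, hI, ⟨eI⟩⟩ := DerivedOX.RightDerived.exists_resFunctor_obj_iso M
    exact Qh_map_bijective f hP I _ eI
  let adj := (DerCat.DerAdj.adjK f.adj (ComplexShape.up ℤ)).comp
    (DerivedOX.RightDerived.resAdj (_root_.ModSite.Mod O_C))
  let r : ((R ⋙ SiteCmp.pushKh f) ⋙ coyoneda.obj (Opposite.op d)).CorepresentableBy
      ((f.pull.mapHomotopyCategory (.up ℤ) ⋙ DerivedCategory.Qh).obj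
        ((HomotopyCategory.quotient _ (.up ℤ)).obj P)) :=
    { homEquiv := fun {M} => ((adj.homEquiv _ M).trans (Equiv.ofBijective _ (hbij M))).trans
        eP.homFromEquiv
      homEquiv_comp := fun {M M'} g φ => by
        change eP.inv ≫ DerivedCategory.Qh.map (adj.homEquiv _ _ (φ ≫ g)) =
          (eP.inv ≫ DerivedCategory.Qh.map (adj.homEquiv _ _ φ)) ≫ (SiteCmp.pushKh f).map (R.map g)
        rw [Adjunction.homEquiv_naturality_right, Functor.map_comp, Category.assoc]
        rfl }
  exact r.isCorepresentable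

end Groth.Agent.Lib.SiteKFlat.PullAdj
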