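import Groth.Agent.Lib.SiteKFlat.Thms
import Groth.Agent.Lib.DerivedOX.BifunctorMap

/-!
# Restriction of K-flat complexes to localized sites
-/

set_option linter.style.haveILetI false

universe u

open CategoryTheory Limits HomologicalComplex

namespace Groth.Agent.Lib.SiteKFlat.Restr

open Groth.Agent.Lib.DerivedOX Groth.Agent.Lib.ExtZero

variable {C : Type u} [SmallCategory C] {J : GrothendieckTopology C} {O : Sheaf J CommRingCat.{u}}
  (U : C)

lemma projRight_eq_projLeft (N : ModSite.Mod O) (P : ModSite.Mod (O.over U)) :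
    ((ExtZero.ModSite.projRight O U N).app P).inv = (ExtZero.ModSite.projLeft O U P).hom.app N := by
  dsimp [ExtZero.ModSite.projRight, ExtZero.ModSite.projLeft, ModTensor.ModSite.tensorBiFlipIso,
    ModTensor.ModSite.tensorBiObjIso, ExtZero.ModSite.tensorLeftCompIso,
    ModTensor.Monoidal.tensorRightCompIso, ExtZero.Presheaf.projNatIsoRight,
    ExtZero.Presheaf.projNatIsoLeft]
  simp only [Category.assoc, NatIso.isIso_inv_app]
  rfl

/-- `P ⊗ (N|_U)`. -/
noncomputable abbrev tensorRestr (O : Sheaf J CommRingCat.{u}) (U : C) :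
    ModSite.Mod (O.over U) ⥤ ModSite.Mod O ⥤ ModSite.Mod (O.over U) :=
  ModSite.tensorBi (O.over U) ⋙ (Functor.whiskeringLeft _ _ _).obj (ModSite.restr O U)

instance additive_tensorRestr_obj (P : ModSite.Mod (O.over U)) :
    ((tensorRestr O U).obj P).Additive :=
  inferInstanceAs ((ModSite.restr O U) ⋙ (ModSite.tensorBi (O.over U)).obj P).Additive

instance additive_EZ : (ExtZero.ModSite.EZ O U).Additive :=
  (ExtZero.ModSite.adjEZ O U).left_adjoint_additive

instance hasMapBifunctor_tensorRestr (L : CochainComplex (ModSite.Mod (O.over U)) ℤ)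
    (K : CochainComplex (ModSite.Mod O) ℤ) : HasMapBifunctor L K (tensorRestr O U) (.up ℤ) :=
  fun _ => inferInstance

/-- The comparison with restriction in the second variable. -/
noncomputable def compRestr : BifunctorMap.Comparison (tensorRestr O U) (ModSite.tensorBi (O.over U))
    (𝟭 _) (ModSite.restr O U) (𝟭 _) where
  iso _ _ := Iso.refl _
  natural₁ _ _ := (Category.comp_id _).trans (Category.id_comp _).symm
  natural₂ _ _ _ _ := (Category.comp_id _).trans (Category.id_comp _).symm

/-- The projection formula as a comparison. -/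
noncomputable def compEZ : BifunctorMap.Comparison (tensorRestr O U) (ModSite.tensorBi O)
    (ExtZero.ModSite.EZ O U) (𝟭 _) (ExtZero.ModSite.EZ O U) where
  iso a b := ((ExtZero.ModSite.projRight O U b).app a).symm
  natural₁ f b := (ExtZero.ModSite.projRight O U b).inv.naturality f
  natural₂ a b b' g := by
    change _ ≫ ((ExtZero.ModSite.projRight O U b').app a).inv =
      ((ExtZero.ModSite.projRight O U b).app a).inv ≫ _
    rw [projRight_eq_projLeft, projRight_eq_projLeft]
    exact (ExtZero.ModSite.projLeft O U a).hom.naturality g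

/-- Restriction preserves K-flatness. -/
theorem isKFlat_restr (K : CochainComplex (ModSite.Mod O) ℤ) (hK : ModSite.IsKFlat K) :
    ModSite.IsKFlat (((ModSite.restr O U).mapHomologicalComplex (ComplexShape.up ℤ)).obj K) := by
  rw [Basic.isKFlat_iff] at hK ⊢
  intro L hL
  haveI : PreservesColimitsOfSize.{u, u} (ExtZero.ModSite.EZ O U) :=
    (ExtZero.ModSite.adjEZ O U).leftAdjoint_preservesColimits
  haveI : PreservesFiniteColimits (ExtZero.ModSite.EZ O U) :=
    PreservesColimitsOfSize.preservesFiniteColimits _
  haveI : ∀ n : ℤ, PreservesColimitsOfShape (Discrete (Bifunctor.Fib n)) (ExtZero.ModSite.EZ O U) :=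
    fun n => haveI := preservesSmallestColimits_of_preservesColimits (ExtZero.ModSite.EZ O U)
      inferInstance
  let M := mapBifunctor L K (tensorRestr O U) (.up ℤ)
  have h₁ : ((((ExtZero.ModSite.EZ O U)).mapHomologicalComplex (.up ℤ)).obj M).Acyclic :=
    Thms.acyclic_of_quasiIso' (BifunctorMap.totalIso (compEZ U) L K).hom
      (hK _ (Basic.acyclic_map (ExtZero.ModSite.EZ O U) hL))
  have h₂ : M.Acyclic := fun n => by
    have h := h₁ n
    rw [exactAt_iff] at h ⊢
    haveI : (ExtZero.ModSite.EZ O U).PreservesHomology := inferInstance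
    exact (ShortComplex.exact_map_iff_of_faithful _ (ExtZero.ModSite.EZ O U)).1 h
  have h₃ : (((𝟭 (ModSite.Mod (O.over U))).mapHomologicalComplex (.up ℤ)).obj M).Acyclic := h₂
  exact Thms.acyclic_of_quasiIso (BifunctorMap.totalIso (compRestr U) L K).hom h₃

end Groth.Agent.Lib.SiteKFlat.Restr
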