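import Groth.Agent.Lib.SiteKFlat.Thms
import Mathlib.Algebra.Homology.BifunctorAssociator

/-!
# Associativity of the total tensor product on a ringed site
-/

set_option linter.style.haveILetI false

universe u

open CategoryTheory Limits MonoidalCategory

namespace Groth.Agent.Lib.SiteKFlat.Assoc

section Generic

variable {P S : Type*} [Category P] [Category S] [MonoidalCategory P] {L : P ⥤ S} {G : S ⥤ P}
  (adj : L ⊣ G) [hR : ∀ X N : P, IsIso (L.map (adj.unit.app X ▷ N))]
  [hL : ∀ X N : P, IsIso (L.map (N ◁ adj.unit.app X))]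

/-- The associator of a localized tensor product. -/
noncomputable def gAssoc (F H K : S) :
    L.obj (G.obj (L.obj (G.obj F ⊗ G.obj H)) ⊗ G.obj K) ≅
      L.obj (G.obj F ⊗ G.obj (L.obj (G.obj H ⊗ G.obj K))) :=
  (asIso (L.map (adj.unit.app (G.obj F ⊗ G.obj H) ▷ G.obj K))).symm ≪≫
    L.mapIso (α_ _ _ _) ≪≫ asIso (L.map (G.obj F ◁ adj.unit.app (G.obj H ⊗ G.obj K)))

lemma gAssoc_natural {F F' H H' K K' : S} (f : F ⟶ F') (h : H ⟶ H') (k : K ⟶ K') :
    L.map (G.map (L.map (G.map f ⊗ₘ G.map h)) ⊗ₘ G.map k) ≫ (gAssoc adj F' H' K').hom =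
      (gAssoc adj F H K).hom ≫ L.map (G.map f ⊗ₘ G.map (L.map (G.map h ⊗ₘ G.map k))) := by
  rw [← cancel_epi (L.map (adj.unit.app (G.obj F ⊗ G.obj H) ▷ G.obj K))]
  simp only [gAssoc, Iso.trans_hom, Iso.symm_hom, asIso_inv, asIso_hom, Functor.mapIso_hom,
    Category.assoc, IsIso.hom_inv_id_assoc]
  have n₁ := adj.unit.naturality (G.map f ⊗ₘ G.map h)
  have n₂ := adj.unit.naturality (G.map h ⊗ₘ G.map k)
  simp only [Functor.id_obj, Functor.id_map, Functor.comp_map, Functor.comp_obj] at n₁ n₂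
  have e₁ : adj.unit.app (G.obj F ⊗ G.obj H) ▷ G.obj K ≫
      (G.map (L.map (G.map f ⊗ₘ G.map h)) ⊗ₘ G.map k) =
      ((G.map f ⊗ₘ G.map h) ⊗ₘ G.map k) ≫ adj.unit.app (G.obj F' ⊗ G.obj H') ▷ G.obj K' := by
    rw [← tensorHom_id, ← tensorHom_id, tensorHom_comp_tensorHom, tensorHom_comp_tensorHom, n₁,
      Category.id_comp, Category.comp_id]
  have e₂ : G.obj F ◁ adj.unit.app (G.obj H ⊗ G.obj K) ≫
      (G.map f ⊗ₘ G.map (L.map (G.map h ⊗ₘ G.map k))) =
      (G.map f ⊗ₘ (G.map h ⊗ₘ G.map k)) ≫ G.obj F' ◁ adj.unit.app (G.obj H' ⊗ G.obj K') := by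
    rw [← id_tensorHom, ← id_tensorHom, tensorHom_comp_tensorHom, tensorHom_comp_tensorHom, n₂,
      Category.id_comp, Category.comp_id]
  rw [← Functor.map_comp_assoc, e₁, Functor.map_comp_assoc, IsIso.hom_inv_id_assoc,
    ← Functor.map_comp_assoc, associator_naturality, Functor.map_comp_assoc]
  exact congrArg (_ ≫ ·) ((L.map_comp _ _).symm.trans ((congrArg L.map e₂.symm).trans (L.map_comp _ _)))

/-- The localized tensor product as a bifunctor. -/
@[simps]
noncomputable def gTen (L : P ⥤ S) (G : S ⥤ P) : S ⥤ S ⥤ S where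
  obj F := G ⋙ tensorLeft (G.obj F) ⋙ L
  map f := { app := fun H => L.map (G.map f ▷ G.obj H)
             naturality := fun H H' h => by
               dsimp
               rw [← Functor.map_comp, ← Functor.map_comp, whisker_exchange] }
  map_id F := by ext H; simp
  map_comp f g := by ext H; simp

/-- The associator, naturally. -/
noncomputable def gAssocNatIso :
    bifunctorComp₁₂ (gTen L G) (gTen L G) ≅ bifunctorComp₂₃ (gTen L G) (gTen L G) :=
  NatIso.ofComponents
    (fun F => NatIso.ofComponents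
      (fun H => NatIso.ofComponents (fun K => gAssoc adj F H K)
        (fun {K K'} k => by have t := gAssoc_natural adj (𝟙 F) (𝟙 H) k; simp at t; exact t))
      (fun {H H'} h => by ext K; have t := gAssoc_natural adj (𝟙 F) h (𝟙 K); simp at t; exact t))
    (fun {F F'} f => by ext H K; have t := gAssoc_natural adj f (𝟙 H) (𝟙 K); simp at t; exact t)

end Generic

end Groth.Agent.Lib.SiteKFlat.Assoc

namespace Groth.Agent.Lib.SiteKFlat.Assoc

open Groth.Agent.Lib.ModTensor.Monoidal HomologicalComplex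

variable {C : Type u} [SmallCategory C] {J : GrothendieckTopology C} {O : Sheaf J CommRingCat.{u}}

/-- The associator of the tensor product of sheaves of modules. -/
noncomputable def assocNatIso :
    bifunctorComp₁₂ (_root_.ModSite.tensorBi O) (_root_.ModSite.tensorBi O) ≅
      bifunctorComp₂₃ (_root_.ModSite.tensorBi O) (_root_.ModSite.tensorBi O) := by
  haveI : ∀ X N : PM O, IsIso ((L.{u, u, u} O).map ((adj O).unit.app X ▷ N)) :=
    fun X N => isIso_map_whiskerRight ((adj O).unit.app X) N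
  haveI : ∀ X N : PM O, IsIso ((L.{u, u, u} O).map (N ◁ (adj O).unit.app X)) :=
    fun X N => isIso_map_whiskerLeft ((adj O).unit.app X) N
  exact gAssocNatIso (adj O)

/-- The tensor product of K-flat complexes is K-flat. -/
theorem isKFlat_tensorCx (K L : CochainComplex (_root_.ModSite.Mod O) ℤ)
    (hK : _root_.ModSite.IsKFlat K) (hL : _root_.ModSite.IsKFlat L) :
    _root_.ModSite.IsKFlat (((_root_.ModSite.tensorCx O).obj K).obj L) := by
  rw [Basic.isKFlat_iff] at hK hL ⊢
  intro E hE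
  haveI : ∀ X : _root_.ModSite.Mod O, PreservesColimitsOfSize.{0, 0} ((_root_.ModSite.tensorBi O).obj X) :=
    fun X => preservesSmallestColimits_of_preservesColimits _
  haveI : ∀ X : _root_.ModSite.Mod O,
      PreservesColimitsOfSize.{0, 0} ((_root_.ModSite.tensorBi O).flip.obj X) :=
    fun X => preservesSmallestColimits_of_preservesColimits _
  haveI : HasGoodTrifunctor₁₂Obj (_root_.ModSite.tensorBi O) (_root_.ModSite.tensorBi O)
      E K L (.up ℤ) (.up ℤ) := fun i₁₂ i₃ => inferInstance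
  haveI : HasGoodTrifunctor₂₃Obj (_root_.ModSite.tensorBi O) (_root_.ModSite.tensorBi O)
      E K L (.up ℤ) (.up ℤ) (.up ℤ) := fun i₁ i₂₃ => inferInstance
  exact Thms.acyclic_of_quasiIso' (mapBifunctorAssociator (assocNatIso (O := O)) E K L
    (.up ℤ) (.up ℤ) (.up ℤ)).hom (hL _ (hK E hE))

end Groth.Agent.Lib.SiteKFlat.Assoc
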