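import Groth.Agent.Lib.SiteKFlat.Thms

/-!
# Factorization of maps out of K-flat complexes; cycles of flat complexes
-/

set_option linter.style.haveILetI false

universe u

open CategoryTheory Limits HomologicalComplex MorphismProperty

namespace Groth.Agent.Lib.SiteKFlat.Factor

open Groth.Agent.Lib.DerivedOX LeftRes TrivCof
open Groth.Agent.Lib.SiteKFlat
open ZeroObject

variable {C : Type u} [SmallCategory C] {J : GrothendieckTopology C} {O : Sheaf J CommRingCat.{u}}

theorem cof_le_monomorphisms {A B : CochainComplex (ModSite.Mod O) ℤ} {i : A ⟶ B}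
    (hi : cof (Basic.G O) i) : Mono i := by
  let T : MorphismProperty (CochainComplex (ModSite.Mod O) ℤ) :=
    fun X Y _ => Injective X ∧ IsZero Y
  haveI : EnoughInjectives (CochainComplex (ModSite.Mod O) ℤ) := inferInstance
  have h := cof_le_inverseImage (𝟭 (CochainComplex (ModSite.Mod O) ℤ)) (𝟭 _) Adjunction.id T
    (fun a X Y p hp => ⟨fun {f g} sq => by
      haveI := hp.1
      haveI : Mono (genMap (Basic.G O) a) := mono_genMap _ a
      exact ⟨⟨⟨Injective.factorThru f (genMap (Basic.G O) a), Injective.comp_factorThru _ _,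
        hp.2.eq_of_tgt _ _⟩⟩⟩⟩) i hi
  let z : Injective.under A ⟶ 0 := 0
  haveI : HasLiftingProperty i z := h z ⟨inferInstance, isZero_zero _⟩
  have sq : CommSq (Injective.ι A) i z (0 : B ⟶ 0) := ⟨(isZero_zero _).eq_of_tgt _ _⟩
  exact mono_of_mono_fac sq.fac_left

/-- Every map out of a K-flat complex factors as a map to a K-flat complex followed by a
quasi-isomorphism. -/
theorem exists_factor {K L : CochainComplex (ModSite.Mod O) ℤ} (a : K ⟶ L)
    (hK : ModSite.IsKFlat K) :
    ∃ (N : CochainComplex (ModSite.Mod O) ℤ) (b : K ⟶ N) (c : N ⟶ L), ModSite.IsKFlat N ∧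
      QuasiIso c ∧ b ≫ c = a ∧
      ((∀ n : ℤ, ModSite.IsFlat (K.X n)) → ∀ n : ℤ, ModSite.IsFlat (N.X n)) := by
  let φ := factor (Basic.G O)
  let f : Arrow (CochainComplex (ModSite.Mod O) ℤ) := Arrow.mk a
  have hi : cof (Basic.G O) (φ.i.app f) := φ.hi f
  haveI : Mono (φ.i.app f) := cof_le_monomorphisms hi
  refine ⟨φ.Z.obj f, φ.i.app f, φ.p.app f, ?_,
    (epi_quasiIso_of_rlp (Basic.isSeparating_gen O) _ (φ.hp f)).2, φ.fac_app (f := f), ?_⟩
  · rw [Basic.isKFlat_iff] at hK ⊢
    intro E hE
    haveI : PreservesColimitsOfSize.{u, u} ((ModSite.tensorCx O).obj E) := inferInstance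
    haveI := isLeftAdjoint_of_preservesColimits ((ModSite.tensorCx O).obj E)
    have h := cof_le_inverseImage _ _ (Adjunction.ofIsLeftAdjoint ((ModSite.tensorCx O).obj E))
      (testMaps _) (fun x => (acycMono_eq_llp (C := ModSite.Mod O)) ▸
        Basic.acycMono_tensor_genMap hE x) _ hi
    rw [MorphismProperty.inverseImage_iff, ← acycMono_eq_llp] at h
    haveI := quasiIso_of_acycMono h
    exact Thms.acyclic_of_quasiIso' (((ModSite.tensorCx O).obj E).map (φ.i.app f)) (hK E hE)
  · intro hfl n
    have hS : (ShortComplex.mk (φ.i.app f) _ (cokernel.condition (φ.i.app f))).ShortExact :=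
      { exact := ShortComplex.exact_cokernel _ }
    refine Exact.isFlat_middle (hS.map_of_exact (HomologicalComplex.eval _ _ n)) (hfl n) ?_
    have sq : IsPushout (φ.i.app f) (0 : Arrow.leftFunc.obj f ⟶ 0) (cokernel.π (φ.i.app f))
        (0 : 0 ⟶ cokernel (φ.i.app f)) := by
      refine IsPushout.of_isColimit' ⟨by simp⟩ (PushoutCocone.IsColimit.mk _
        (fun s => cokernel.desc _ s.inl (by rw [s.condition, zero_comp])) (fun s => by simp)
        (fun s => (isZero_zero _).eq_of_src _ _) (fun s m h₁ _ => ?_))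
      rw [← cancel_epi (cokernel.π (φ.i.app f))]
      simpa using h₁
    have hc : cof (Basic.G O) (0 : 0 ⟶ cokernel (φ.i.app f)) :=
      MorphismProperty.of_isPushout sq.flip hi
    obtain ⟨r⟩ := exists_retract_of_cof (Basic.isSeparating_gen O) _ hc n
    exact ModTensor.FlatMono.isFlat_of_retract r
      (Basic.isFlat_sigma _ fun x => ExtZero.ModSite.isFlat_freeOn O x.1)

end Groth.Agent.Lib.SiteKFlat.Factor
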