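import Mathlib.Algebra.Homology.Embedding.ExtendHomology
import Mathlib.Algebra.Homology.Embedding.HomEquiv
import Mathlib.Algebra.Homology.Embedding.CochainComplex
import Mathlib.Algebra.Homology.HomologicalComplexAbelian
import Mathlib.Algebra.Homology.HomologySequence
import Mathlib.Algebra.Homology.QuasiIso
import Mathlib.CategoryTheory.Abelian.Refinements

/-!
# Relative free resolutions of bounded above complexes
-/

set_option linter.style.haveILetI false

universe v u

open CategoryTheory Limits HomologicalComplex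

namespace Groth.Agent.Lib.SiteKFlat.RelRes

variable {A : Type u} [Category.{v} A] [Abelian A]

section Chain

variable (Fo : A → A) (π : ∀ X, Fo X ⟶ X) {P G : ChainComplex A ℕ} (a : P ⟶ G)

/-- The state of the recursion in degree `k`: the cycles built so far. -/
structure State (k : ℕ) where
  /-- The cycles. -/
  Z : A
  /-- Their map to `G`. -/
  w : Z ⟶ G.X k
  /-- The differential of `P`. -/
  v : P.X (k + 1) ⟶ Z
  hv : P.d (k + 2) (k + 1) ≫ v = 0
  hvw : v ≫ w = a.f (k + 1) ≫ G.d (k + 1) k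

variable {Fo π a}

/-- The pullback of cycles and the next term of `G`. -/
noncomputable abbrev State.Q {k : ℕ} (s : State a k) : A := pullback s.w (G.d (k + 1) k)

/-- The next term. -/
noncomputable abbrev State.X' (Fo : A → A) {k : ℕ} (s : State a k) : A :=
  P.X (k + 1) ⊞ Fo s.Q

/-- The next differential, into the cycles. -/
noncomputable def State.d' (π : ∀ X, Fo X ⟶ X) {k : ℕ} (s : State a k) : s.X' Fo ⟶ s.Z :=
  biprod.desc s.v (π _ ≫ pullback.fst _ _)

/-- The next map to `G`. -/
noncomputable def State.c' (π : ∀ X, Fo X ⟶ X) {k : ℕ} (s : State a k) : s.X' Fo ⟶ G.X (k + 1) :=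
  biprod.desc (a.f (k + 1)) (π _ ≫ pullback.snd _ _)

lemma State.c'_d (π : ∀ X, Fo X ⟶ X) {k : ℕ} (s : State a k) :
    s.c' π ≫ G.d (k + 1) k = s.d' π ≫ s.w := by
  apply biprod.hom_ext' <;> simp [State.c', State.d', s.hvw, pullback.condition]

/-- The next state. -/
noncomputable def State.next (π : ∀ X, Fo X ⟶ X) {k : ℕ} (s : State a k) : State a (k + 1) where
  Z := kernel (s.d' π)
  w := kernel.ι _ ≫ s.c' π
  v := kernel.lift _ (P.d (k + 2) (k + 1) ≫ biprod.inl) (by simp [State.d', s.hv])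
  hv := by
    rw [← cancel_mono (kernel.ι _)]
    simp
  hvw := by
    rw [kernel.lift_ι_assoc, Category.assoc, State.c', biprod.inl_desc]
    exact (a.comm _ _).symm

variable (Fo π a)

/-- The base state. -/
noncomputable def base : State a 0 where
  Z := P.X 0 ⊞ Fo (G.X 0)
  w := biprod.desc (a.f 0) (π _)
  v := P.d 1 0 ≫ biprod.inl
  hv := by rw [← Category.assoc, P.d_comp_d, zero_comp]
  hvw := by
    rw [Category.assoc, biprod.inl_desc]
    exact (a.comm _ _).symm

/-- All states. -/
noncomputable def state : ∀ k, State a k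
  | 0 => base Fo π a
  | k + 1 => (state k).next π

/-- The free part of each term. -/
noncomputable def freePart : ℕ → A
  | 0 => Fo (G.X 0)
  | k + 1 => Fo (state Fo π a k).Q

/-- The terms. -/
noncomputable abbrev NX (k : ℕ) : A := P.X k ⊞ freePart Fo π a k

/-- The inclusion of the cycles. -/
noncomputable def zι : ∀ k, (state Fo π a k).Z ⟶ NX Fo π a k
  | 0 => 𝟙 _
  | _ + 1 => kernel.ι _

/-- The map to `G`. -/
noncomputable def cN : ∀ k, NX Fo π a k ⟶ G.X k
  | 0 => (base Fo π a).w
  | k + 1 => (state Fo π a k).c' π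

lemma zι_c : ∀ k, zι Fo π a k ≫ cN Fo π a k = (state Fo π a k).w
  | 0 => Category.id_comp _
  | _ + 1 => rfl

/-- The differential. -/
noncomputable def dN (k : ℕ) : NX Fo π a (k + 1) ⟶ NX Fo π a k :=
  (state Fo π a k).d' π ≫ zι Fo π a k

lemma zι_d (k : ℕ) : zι Fo π a (k + 1) ≫ dN Fo π a k = 0 := by
  change kernel.ι _ ≫ (state Fo π a k).d' π ≫ zι Fo π a k = 0
  rw [kernel.condition_assoc, zero_comp]

/-- The resolution. -/
noncomputable def N : ChainComplex A ℕ :=
  ChainComplex.of (NX Fo π a) (dN Fo π a) fun k => by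
    change ((state Fo π a (k + 1)).d' π ≫ zι Fo π a (k + 1)) ≫ dN Fo π a k = 0
    rw [Category.assoc, zι_d, comp_zero]

lemma N_d (k : ℕ) : (N Fo π a).d (k + 1) k = dN Fo π a k := ChainComplex.of_d _ _ k

/-- The augmentation. -/
noncomputable def c : N Fo π a ⟶ G :=
  ChainComplex.ofHom (cN Fo π a) fun k => by
    rw [N_d]
    change (state Fo π a k).c' π ≫ _ = ((state Fo π a k).d' π ≫ zι Fo π a k) ≫ _
    rw [Category.assoc, zι_c, State.c'_d]

lemma v_zι : ∀ k, (state Fo π a k).v ≫ zι Fo π a k = P.d (k + 1) k ≫ biprod.inl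
  | 0 => Category.comp_id _
  | _ + 1 => kernel.lift_ι _ _ _

/-- The inclusion. -/
noncomputable def incl : P ⟶ N Fo π a :=
  ChainComplex.ofHom (fun k => (biprod.inl : P.X k ⟶ NX Fo π a k)) fun k => by
    rw [N_d]
    change biprod.inl ≫ (state Fo π a k).d' π ≫ zι Fo π a k = _
    rw [State.d', biprod.inl_desc_assoc]
    exact v_zι Fo π a k

lemma incl_c : incl Fo π a ≫ c Fo π a = a := by
  ext k : 1
  cases k with
  | zero => exact biprod.inl_desc _ _
  | succ k => exact biprod.inl_desc _ _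

variable [∀ X, Epi (π X)]

/-- The cycles surject onto the cycles of `G`. -/
lemma lift_cycle : ∀ (k : ℕ) {T : A} (g : T ⟶ G.X k),
    (∀ j, g ≫ G.d k j = 0) → ∃ (T' : A) (p : T' ⟶ T) (_ : Epi p) (z : T' ⟶ (state Fo π a k).Z),
      p ≫ g = z ≫ (state Fo π a k).w
  | 0, T, g, _ => by
    haveI : Epi (base Fo π a).w := epi_of_epi_fac (biprod.inr_desc (a.f 0) (π (G.X 0)))
    obtain ⟨T', p, hp, z, hz⟩ := surjective_up_to_refinements_of_epi (base Fo π a).w g
    exact ⟨T', p, hp, z, hz⟩
  | k + 1, T, g, hg => by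
    let s := state Fo π a k
    let q : T ⟶ s.Q := pullback.lift 0 g (by rw [zero_comp, hg])
    obtain ⟨T', p, hp, f, hf⟩ := surjective_up_to_refinements_of_epi (π s.Q) q
    refine ⟨T', p, hp, kernel.lift _ (f ≫ biprod.inr) ?_, ?_⟩
    · rw [State.d', Category.assoc, biprod.inr_desc, ← Category.assoc, ← hf, Category.assoc,
        pullback.lift_fst, comp_zero]
    · change p ≫ g = kernel.lift _ _ _ ≫ kernel.ι _ ≫ s.c' π
      rw [kernel.lift_ι_assoc, Category.assoc, State.c', biprod.inr_desc, ← Category.assoc, ← hf,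
        Category.assoc, pullback.lift_snd]

lemma epi_c : ∀ k, Epi ((c Fo π a).f k)
  | 0 => epi_of_epi_fac (biprod.inr_desc (a.f 0) (π (G.X 0)))
  | k + 1 => by
    rw [epi_iff_surjective_up_to_refinements]
    intro T g
    obtain ⟨T', p, hp, z, hz⟩ := lift_cycle Fo π a k (g ≫ G.d (k + 1) k)
      (fun j => by rw [Category.assoc, G.d_comp_d, comp_zero])
    let s := state Fo π a k
    let q : T' ⟶ s.Q := pullback.lift z (p ≫ g) (hz.symm.trans (Category.assoc _ _ _).symm)
    obtain ⟨T'', p', hp', f, hf⟩ := surjective_up_to_refinements_of_epi (π s.Q) q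
    refine ⟨T'', p' ≫ p, epi_comp _ _, f ≫ biprod.inr, ?_⟩
    change (p' ≫ p) ≫ g = (f ≫ biprod.inr) ≫ s.c' π
    rw [Category.assoc, Category.assoc, State.c', biprod.inr_desc, ← Category.assoc f, ← hf,
      Category.assoc, pullback.lift_snd]

/-- The kernel of the augmentation is acyclic. -/
lemma exact_kernel : (kernel (c Fo π a)).Acyclic := by
  intro k
  rw [exactAt_iff' _ (k + 1) k ((ComplexShape.down ℕ).next k) (by simp) rfl,
    ShortComplex.exact_iff_exact_up_to_refinements]
  intro T x₀ hx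
  obtain ⟨x, rfl⟩ : ∃ x : T ⟶ (kernel (c Fo π a)).X k, x = x₀ := ⟨x₀, rfl⟩
  change x ≫ (kernel (c Fo π a)).d k _ = 0 at hx
  let y : T ⟶ (N Fo π a).X k := x ≫ (kernel.ι (c Fo π a)).f k
  have hy : ∀ j, y ≫ (N Fo π a).d k j = 0 := by
    intro j
    by_cases hj : (ComplexShape.down ℕ).Rel k j
    · obtain rfl := (ComplexShape.down ℕ).next_eq' hj
      rw [Category.assoc, (kernel.ι (c Fo π a)).comm, reassoc_of% hx, zero_comp]
    · rw [(N Fo π a).shape _ _ hj, comp_zero]
  have hyc : y ≫ cN Fo π a k = 0 := by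
    change (x ≫ (kernel.ι (c Fo π a)).f k) ≫ (c Fo π a).f k = 0
    rw [Category.assoc, ← comp_f, kernel.condition, zero_f, comp_zero]
  obtain ⟨z, hz⟩ : ∃ z, z ≫ zι Fo π a k = y := by
    cases k with
    | zero => exact ⟨y, Category.comp_id _⟩
    | succ k =>
      have h := hy k
      rw [N_d] at h
      haveI : Mono (zι Fo π a k) := by
        cases k with
        | zero => exact inferInstanceAs (Mono (𝟙 _))
        | succ k => exact inferInstanceAs (Mono (kernel.ι _))
      refine ⟨kernel.lift _ y ?_, kernel.lift_ι _ _ _⟩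
      rw [← cancel_mono (zι Fo π a k), Category.assoc, zero_comp]
      exact h
  let s := state Fo π a k
  let q : T ⟶ s.Q := pullback.lift z 0 (by
    exact (congrArg (z ≫ ·) (zι_c Fo π a k).symm).trans (((Category.assoc _ _ _).symm.trans
      (congrArg (· ≫ cN Fo π a k) hz)).trans (hyc.trans zero_comp.symm)))
  obtain ⟨T', p, hp, f, hf⟩ := surjective_up_to_refinements_of_epi (π s.Q) q
  let t : T' ⟶ NX Fo π a (k + 1) := f ≫ biprod.inr
  have htc : t ≫ (c Fo π a).f (k + 1) = 0 := by
    change (f ≫ biprod.inr) ≫ s.c' π = 0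
    rw [Category.assoc, State.c', biprod.inr_desc, ← Category.assoc, ← hf, Category.assoc,
      pullback.lift_snd, comp_zero]
  let hl := isLimitForkMapOfIsLimit' (HomologicalComplex.eval A (.down ℕ) (k + 1))
    (kernel.condition (c Fo π a)) (kernelIsKernel (c Fo π a))
  obtain ⟨l, hl'⟩ : ∃ l : T' ⟶ (kernel (c Fo π a)).X (k + 1),
      l ≫ (kernel.ι (c Fo π a)).f (k + 1) = t :=
    ⟨_, (KernelFork.IsLimit.lift' hl t htc).2⟩
  refine ⟨T', p, hp, l, ?_⟩
  change p ≫ x = l ≫ (kernel (c Fo π a)).d (k + 1) k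
  haveI : Mono ((kernel.ι (c Fo π a)).f k) := inferInstance
  refine (cancel_mono ((kernel.ι (c Fo π a)).f k)).1 ?_
  refine (Category.assoc _ _ _).trans (Eq.trans ?_ (Category.assoc _ _ _).symm)
  rw [← (kernel.ι (c Fo π a)).comm]
  refine Eq.trans ?_ ((congrArg (· ≫ (N Fo π a).d (k + 1) k) hl').symm.trans (Category.assoc _ _ _))
  rw [N_d]
  change p ≫ y = (f ≫ biprod.inr) ≫ s.d' π ≫ zι Fo π a k
  rw [State.d', Category.assoc, biprod.inr_desc_assoc, Category.assoc, ← Category.assoc f, ← hf,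
    Category.assoc, pullback.lift_fst_assoc, hz]
  rfl

lemma quasiIso_c : QuasiIso (c Fo π a) := by
  haveI := fun k => epi_c Fo π a k
  haveI : Epi (c Fo π a) := epi_of_epi_f _ inferInstance
  have hS : (ShortComplex.mk _ _ (kernel.condition (c Fo π a))).ShortExact :=
    { exact := ShortComplex.exact_kernel _ }
  refine ⟨fun i => ?_⟩
  rw [quasiIsoAt_iff_isIso_homologyMap]
  haveI : Mono (homologyMap (c Fo π a) i) :=
    (hS.homology_exact₂ i).mono_g ((exact_kernel Fo π a i).isZero_homology.eq_of_src _ _)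
  haveI : Epi (homologyMap (c Fo π a) i) := by
    cases i with
    | zero => exact epi_homologyMap_of_epi_of_not_rel _ _ (by simp)
    | succ i =>
      exact (hS.homology_exact₃ (i + 1) i rfl).epi_f
        ((exact_kernel Fo π a i).isZero_homology.eq_of_tgt _ _)
  exact isIso_of_mono_of_epi _

end Chain

end Groth.Agent.Lib.SiteKFlat.RelRes
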